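import Cfsg.Agent.Chev.Chk.B2_0

/-! All basic relations of type B2, assembled from the chunked kernel checks. -/

set_option autoImplicit false
set_option maxRecDepth 1000000

namespace Cfsg.Agent.Chev
open Cfsg.Lie

theorem cAddB2_all : ∀ r < 8, chkAdd1 pkB2 r = true := by
  intro r hr
  exact allRange_spec cAddB2_0 r (by omega) (by omega)

theorem cHB2_all : ∀ r < 8, chkH1 pkB2 prB2 r = true := by
  intro r hr
  exact allRange_spec cHB2_0 r (by omega) (by omega)

theorem cConj0xB2_all : ∀ r < 8, chkConj1 pkB2 nauxB2 0 r = true := by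
  intro r hr
  exact allRange_spec cConj0xB2_0 r (by omega) (by omega)

theorem cConj1xB2_all : ∀ r < 8, chkConj1 pkB2 nauxB2 1 r = true := by
  intro r hr
  exact allRange_spec cConj1xB2_0 r (by omega) (by omega)

theorem cCommB2_all : ∀ r < 8, chkCommRow pkB2 r = true := by
  intro r hr
  exact allRange_spec cCommB2_0 r (by omega) (by omega)

theorem chkAddB2 : chkAdd pkB2 = true := (allBelow_iff _ _).mpr cAddB2_all

theorem chkHB2 : chkH pkB2 prB2 = true := (allBelow_iff _ _).mpr cHB2_all

theorem chkConjB2 : ∀ i < 2, chkConj pkB2 nauxB2 i = true := by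
  intro i hi
  interval_cases i
  · exact (allBelow_iff _ _).mpr cConj0xB2_all
  · exact (allBelow_iff _ _).mpr cConj1xB2_all

theorem commB2 {F : Type*} [Field F] (r s : ℕ) (hr : r < chevB2.nroots) (hs : s < chevB2.nroots)
    (h1 : s ≠ r) (h2 : s ≠ chevB2.neg r) : CommRel chevB2 F r s :=
  commRel_of_chkRow fastB2 r hr (cCommB2_all r hr) s hs h1 h2

end Cfsg.Agent.Chev
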