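import Cfsg.Agent.Chev.Chk.B2P_0
import Cfsg.Agent.Chev.Chk.B2Rel
import Cfsg.Agent.Chev.Tab.B2Root

/-! The relations of type B2, packaged. -/

set_option autoImplicit false
set_option maxRecDepth 1000000

namespace Cfsg.Agent.Chev
open Cfsg.Lie

theorem cPairB2_all : ∀ r < 8, chkPair1 pkB2 prB2 r = true := by
  intro r hr
  exact allRange_spec cPairB2_0 r (by omega) (by omega)

theorem relsB2 (F : Type*) [Field F] : Rels chevB2 goodB2 F :=
  Rels.ofChk fastB2 nauxB2 rauxB2 prB2 chkAuxB2 chkAux2B2 cEntB2 chkRootB2 chkAddB2 chkHB2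
    cPairB2_all chkNB2 chkConjB2 (fun r s hr hs h1 h2 => commB2 r s hr hs h1 h2)

end Cfsg.Agent.Chev
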