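import Cfsg.Agent.Chev.Chk.D4_0

/-! All basic relations of type D4, assembled from the chunked kernel checks. -/

set_option autoImplicit false
set_option maxRecDepth 1000000

namespace Cfsg.Agent.Chev
open Cfsg.Lie

theorem cAddD4_all : ∀ r < 24, chkAdd1 pkD4 r = true := by
  intro r hr
  exact allRange_spec cAddD4_0 r (by omega) (by omega)

theorem cHD4_all : ∀ r < 24, chkH1 pkD4 prD4 r = true := by
  intro r hr
  exact allRange_spec cHD4_0 r (by omega) (by omega)

theorem cConj0xD4_all : ∀ r < 24, chkConj1 pkD4 nauxD4 0 r = true := by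
  intro r hr
  exact allRange_spec cConj0xD4_0 r (by omega) (by omega)

theorem cConj1xD4_all : ∀ r < 24, chkConj1 pkD4 nauxD4 1 r = true := by
  intro r hr
  exact allRange_spec cConj1xD4_0 r (by omega) (by omega)

theorem cConj2xD4_all : ∀ r < 24, chkConj1 pkD4 nauxD4 2 r = true := by
  intro r hr
  exact allRange_spec cConj2xD4_0 r (by omega) (by omega)

theorem cConj3xD4_all : ∀ r < 24, chkConj1 pkD4 nauxD4 3 r = true := by
  intro r hr
  exact allRange_spec cConj3xD4_0 r (by omega) (by omega)

theorem cCommD4_all : ∀ r < 24, chkCommRow pkD4 r = true := by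
  intro r hr
  rcases Nat.lt_or_ge r 4 with h0 | h0
  · exact allRange_spec cCommD4_0 r (by omega) (by omega)
  rcases Nat.lt_or_ge r 8 with h1 | h1
  · exact allRange_spec cCommD4_1 r (by omega) (by omega)
  rcases Nat.lt_or_ge r 12 with h2 | h2
  · exact allRange_spec cCommD4_2 r (by omega) (by omega)
  rcases Nat.lt_or_ge r 16 with h3 | h3
  · exact allRange_spec cCommD4_3 r (by omega) (by omega)
  rcases Nat.lt_or_ge r 20 with h4 | h4
  · exact allRange_spec cCommD4_4 r (by omega) (by omega)
  exact allRange_spec cCommD4_5 r (by omega) (by omega)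

theorem chkAddD4 : chkAdd pkD4 = true := (allBelow_iff _ _).mpr cAddD4_all

theorem chkHD4 : chkH pkD4 prD4 = true := (allBelow_iff _ _).mpr cHD4_all

theorem chkConjD4 : ∀ i < 4, chkConj pkD4 nauxD4 i = true := by
  intro i hi
  interval_cases i
  · exact (allBelow_iff _ _).mpr cConj0xD4_all
  · exact (allBelow_iff _ _).mpr cConj1xD4_all
  · exact (allBelow_iff _ _).mpr cConj2xD4_all
  · exact (allBelow_iff _ _).mpr cConj3xD4_all

theorem commD4 {F : Type*} [Field F] (r s : ℕ) (hr : r < chevD4.nroots) (hs : s < chevD4.nroots)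
    (h1 : s ≠ r) (h2 : s ≠ chevD4.neg r) : CommRel chevD4 F r s :=
  commRel_of_chkRow fastD4 r hr (cCommD4_all r hr) s hs h1 h2

end Cfsg.Agent.Chev
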