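import Cfsg.Agent.Chev.Chk.D4P_0
import Cfsg.Agent.Chev.Chk.D4Rel
import Cfsg.Agent.Chev.Tab.D4Root

/-! The relations of type D4, packaged. -/

set_option autoImplicit false
set_option maxRecDepth 1000000

namespace Cfsg.Agent.Chev
open Cfsg.Lie

theorem cPairD4_all : ∀ r < 24, chkPair1 pkD4 prD4 r = true := by
  intro r hr
  exact allRange_spec cPairD4_0 r (by omega) (by omega)

theorem relsD4 (F : Type*) [Field F] : Rels chevD4 goodD4 F :=
  Rels.ofChk fastD4 nauxD4 rauxD4 prD4 chkAuxD4 chkAux2D4 cEntD4 chkRootD4 chkAddD4 chkHD4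
    cPairD4_all chkND4 chkConjD4 (fun r s hr hs h1 h2 => commD4 r s hr hs h1 h2)

end Cfsg.Agent.Chev
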