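import Cfsg.Agent.Chev.Chk.E6_0

/-! All basic relations of type E6, assembled from the chunked kernel checks. -/

set_option autoImplicit false
set_option maxRecDepth 1000000

namespace Cfsg.Agent.Chev
open Cfsg.Lie

theorem cAddE6_all : ∀ r < 72, chkAdd1 pkE6 r = true := by
  intro r hr
  rcases Nat.lt_or_ge r 64 with h0 | h0
  · exact allRange_spec cAddE6_0 r (by omega) (by omega)
  exact allRange_spec cAddE6_1 r (by omega) (by omega)

theorem cHE6_all : ∀ r < 72, chkH1 pkE6 prE6 r = true := by
  intro r hr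
  rcases Nat.lt_or_ge r 16 with h0 | h0
  · exact allRange_spec cHE6_0 r (by omega) (by omega)
  rcases Nat.lt_or_ge r 32 with h1 | h1
  · exact allRange_spec cHE6_1 r (by omega) (by omega)
  rcases Nat.lt_or_ge r 48 with h2 | h2
  · exact allRange_spec cHE6_2 r (by omega) (by omega)
  rcases Nat.lt_or_ge r 64 with h3 | h3
  · exact allRange_spec cHE6_3 r (by omega) (by omega)
  exact allRange_spec cHE6_4 r (by omega) (by omega)

theorem cConj0xE6_all : ∀ r < 72, chkConj1 pkE6 nauxE6 0 r = true := by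
  intro r hr
  rcases Nat.lt_or_ge r 64 with h0 | h0
  · exact allRange_spec cConj0xE6_0 r (by omega) (by omega)
  exact allRange_spec cConj0xE6_1 r (by omega) (by omega)

theorem cConj1xE6_all : ∀ r < 72, chkConj1 pkE6 nauxE6 1 r = true := by
  intro r hr
  rcases Nat.lt_or_ge r 64 with h0 | h0
  · exact allRange_spec cConj1xE6_0 r (by omega) (by omega)
  exact allRange_spec cConj1xE6_1 r (by omega) (by omega)

theorem cConj2xE6_all : ∀ r < 72, chkConj1 pkE6 nauxE6 2 r = true := by
  intro r hr
  rcases Nat.lt_or_ge r 64 with h0 | h0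
  · exact allRange_spec cConj2xE6_0 r (by omega) (by omega)
  exact allRange_spec cConj2xE6_1 r (by omega) (by omega)

theorem cConj3xE6_all : ∀ r < 72, chkConj1 pkE6 nauxE6 3 r = true := by
  intro r hr
  rcases Nat.lt_or_ge r 64 with h0 | h0
  · exact allRange_spec cConj3xE6_0 r (by omega) (by omega)
  exact allRange_spec cConj3xE6_1 r (by omega) (by omega)

theorem cConj4xE6_all : ∀ r < 72, chkConj1 pkE6 nauxE6 4 r = true := by
  intro r hr
  rcases Nat.lt_or_ge r 64 with h0 | h0
  · exact allRange_spec cConj4xE6_0 r (by omega) (by omega)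
  exact allRange_spec cConj4xE6_1 r (by omega) (by omega)

theorem cConj5xE6_all : ∀ r < 72, chkConj1 pkE6 nauxE6 5 r = true := by
  intro r hr
  rcases Nat.lt_or_ge r 64 with h0 | h0
  · exact allRange_spec cConj5xE6_0 r (by omega) (by omega)
  exact allRange_spec cConj5xE6_1 r (by omega) (by omega)

theorem cSCE6_all : ∀ r < 72, chkSC pkE6 nauxE6 pathE6 r = true := by
  intro r hr
  rcases Nat.lt_or_ge r 33 with h0 | h0
  · exact allRange_spec cSCE6_0 r (by omega) (by omega)
  rcases Nat.lt_or_ge r 66 with h1 | h1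
  · exact allRange_spec cSCE6_1 r (by omega) (by omega)
  exact allRange_spec cSCE6_2 r (by omega) (by omega)

theorem cBaseE6_all : ∀ r < 72, chkCommPt pkE6 71 r = true := by
  intro r hr
  rcases Nat.lt_or_ge r 32 with h0 | h0
  · exact allRange_spec cBaseE6_0 r (by omega) (by omega)
  rcases Nat.lt_or_ge r 64 with h1 | h1
  · exact allRange_spec cBaseE6_1 r (by omega) (by omega)
  exact allRange_spec cBaseE6_2 r (by omega) (by omega)

theorem chkAddE6 : chkAdd pkE6 = true := (allBelow_iff _ _).mpr cAddE6_all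

theorem chkHE6 : chkH pkE6 prE6 = true := (allBelow_iff _ _).mpr cHE6_all

theorem chkConjE6 : ∀ i < 6, chkConj pkE6 nauxE6 i = true := by
  intro i hi
  interval_cases i
  · exact (allBelow_iff _ _).mpr cConj0xE6_all
  · exact (allBelow_iff _ _).mpr cConj1xE6_all
  · exact (allBelow_iff _ _).mpr cConj2xE6_all
  · exact (allBelow_iff _ _).mpr cConj3xE6_all
  · exact (allBelow_iff _ _).mpr cConj4xE6_all
  · exact (allBelow_iff _ _).mpr cConj5xE6_all

theorem commE6 {F : Type*} [Field F] (r s : ℕ) (hr : r < chevE6.nroots) (hs : s < chevE6.nroots)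
    (h1 : s ≠ r) (h2 : s ≠ chevE6.neg r) : CommRel chevE6 F r s :=
  commRel_all fastE6 chkAddE6 chkAuxE6 chkAux2E6 chkNE6 chkConjE6 chkPathE6 chkSLE6
    cSCE6_all (chkBase_of pkE6 pathE6 71 chkBase0E6 cBaseE6_all) r s hr hs h1 h2

end Cfsg.Agent.Chev
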