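import Cfsg.Agent.Chev.Chk.E6P_0
import Cfsg.Agent.Chev.Chk.E6Rel
import Cfsg.Agent.Chev.Tab.E6Root

/-! The relations of type E6, packaged. -/

set_option autoImplicit false
set_option maxRecDepth 1000000

namespace Cfsg.Agent.Chev
open Cfsg.Lie

theorem cPairE6_all : ∀ r < 72, chkPair1 pkE6 prE6 r = true := by
  intro r hr
  rcases Nat.lt_or_ge r 33 with h0 | h0
  · exact allRange_spec cPairE6_0 r (by omega) (by omega)
  rcases Nat.lt_or_ge r 66 with h1 | h1
  · exact allRange_spec cPairE6_1 r (by omega) (by omega)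
  exact allRange_spec cPairE6_2 r (by omega) (by omega)

theorem relsE6 (F : Type*) [Field F] : Rels chevE6 goodE6 F :=
  Rels.ofChk fastE6 nauxE6 rauxE6 prE6 chkAuxE6 chkAux2E6 cEntE6 chkRootE6 chkAddE6 chkHE6
    cPairE6_all chkNE6 chkConjE6 (fun r s hr hs h1 h2 => commE6 r s hr hs h1 h2)

end Cfsg.Agent.Chev
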