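import Cfsg.Agent.Chev.Tab.E7Path

set_option autoImplicit false
set_option maxRecDepth 1000000

namespace Cfsg.Agent.Chev
open Cfsg.Lie

theorem cConj3xE7_2 : allRange (chkConj1 pkE7 nauxE7 3) 74 37 = true := by decide +kernel
theorem cConj3xE7_3 : allRange (chkConj1 pkE7 nauxE7 3) 111 15 = true := by decide +kernel
theorem cConj4xE7_0 : allRange (chkConj1 pkE7 nauxE7 4) 0 37 = true := by decide +kernel
theorem cConj4xE7_1 : allRange (chkConj1 pkE7 nauxE7 4) 37 37 = true := by decide +kernel
theorem cConj4xE7_2 : allRange (chkConj1 pkE7 nauxE7 4) 74 37 = true := by decide +kernel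
theorem cConj4xE7_3 : allRange (chkConj1 pkE7 nauxE7 4) 111 15 = true := by decide +kernel
theorem cConj5xE7_0 : allRange (chkConj1 pkE7 nauxE7 5) 0 37 = true := by decide +kernel
theorem cConj5xE7_1 : allRange (chkConj1 pkE7 nauxE7 5) 37 37 = true := by decide +kernel
theorem cConj5xE7_2 : allRange (chkConj1 pkE7 nauxE7 5) 74 37 = true := by decide +kernel
theorem cConj5xE7_3 : allRange (chkConj1 pkE7 nauxE7 5) 111 15 = true := by decide +kernel
theorem cConj6xE7_0 : allRange (chkConj1 pkE7 nauxE7 6) 0 37 = true := by decide +kernel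
theorem cConj6xE7_1 : allRange (chkConj1 pkE7 nauxE7 6) 37 37 = true := by decide +kernel
theorem cConj6xE7_2 : allRange (chkConj1 pkE7 nauxE7 6) 74 37 = true := by decide +kernel
theorem cConj6xE7_3 : allRange (chkConj1 pkE7 nauxE7 6) 111 15 = true := by decide +kernel
theorem cSCE7_0 : allRange (chkSC pkE7 nauxE7 pathE7) 0 19 = true := by decide +kernel
theorem cSCE7_1 : allRange (chkSC pkE7 nauxE7 pathE7) 19 19 = true := by decide +kernel
theorem cSCE7_2 : allRange (chkSC pkE7 nauxE7 pathE7) 38 19 = true := by decide +kernel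
theorem cSCE7_3 : allRange (chkSC pkE7 nauxE7 pathE7) 57 19 = true := by decide +kernel
theorem cSCE7_4 : allRange (chkSC pkE7 nauxE7 pathE7) 76 19 = true := by decide +kernel
theorem cSCE7_5 : allRange (chkSC pkE7 nauxE7 pathE7) 95 19 = true := by decide +kernel

end Cfsg.Agent.Chev
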