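import Cfsg.Agent.Chev.Tab.E7Path

set_option autoImplicit false
set_option maxRecDepth 1000000

namespace Cfsg.Agent.Chev
open Cfsg.Lie

theorem cSCE7_6 : allRange (chkSC pkE7 nauxE7 pathE7) 114 12 = true := by decide +kernel
theorem cBaseE7_0 : allRange (chkCommPt pkE7 125) 0 18 = true := by decide +kernel
theorem cBaseE7_1 : allRange (chkCommPt pkE7 125) 18 18 = true := by decide +kernel
theorem cBaseE7_2 : allRange (chkCommPt pkE7 125) 36 18 = true := by decide +kernel
theorem cBaseE7_3 : allRange (chkCommPt pkE7 125) 54 18 = true := by decide +kernel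
theorem cBaseE7_4 : allRange (chkCommPt pkE7 125) 72 18 = true := by decide +kernel
theorem cBaseE7_5 : allRange (chkCommPt pkE7 125) 90 18 = true := by decide +kernel
theorem cBaseE7_6 : allRange (chkCommPt pkE7 125) 108 18 = true := by decide +kernel

end Cfsg.Agent.Chev
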