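import Cfsg.Agent.Chev.Chk.E7_0
import Cfsg.Agent.Chev.Chk.E7_1
import Cfsg.Agent.Chev.Chk.E7_2

/-! All basic relations of type E7, assembled from the chunked kernel checks. -/

set_option autoImplicit false
set_option maxRecDepth 1000000

namespace Cfsg.Agent.Chev
open Cfsg.Lie

theorem cAddE7_all : ∀ r < 126, chkAdd1 pkE7 r = true := by
  intro r hr
  rcases Nat.lt_or_ge r 37 with h0 | h0
  · exact allRange_spec cAddE7_0 r (by omega) (by omega)
  rcases Nat.lt_or_ge r 74 with h1 | h1
  · exact allRange_spec cAddE7_1 r (by omega) (by omega)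
  rcases Nat.lt_or_ge r 111 with h2 | h2
  · exact allRange_spec cAddE7_2 r (by omega) (by omega)
  exact allRange_spec cAddE7_3 r (by omega) (by omega)

theorem cHE7_all : ∀ r < 126, chkH1 pkE7 prE7 r = true := by
  intro r hr
  rcases Nat.lt_or_ge r 9 with h0 | h0
  · exact allRange_spec cHE7_0 r (by omega) (by omega)
  rcases Nat.lt_or_ge r 18 with h1 | h1
  · exact allRange_spec cHE7_1 r (by omega) (by omega)
  rcases Nat.lt_or_ge r 27 with h2 | h2
  · exact allRange_spec cHE7_2 r (by omega) (by omega)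
  rcases Nat.lt_or_ge r 36 with h3 | h3
  · exact allRange_spec cHE7_3 r (by omega) (by omega)
  rcases Nat.lt_or_ge r 45 with h4 | h4
  · exact allRange_spec cHE7_4 r (by omega) (by omega)
  rcases Nat.lt_or_ge r 54 with h5 | h5
  · exact allRange_spec cHE7_5 r (by omega) (by omega)
  rcases Nat.lt_or_ge r 63 with h6 | h6
  · exact allRange_spec cHE7_6 r (by omega) (by omega)
  rcases Nat.lt_or_ge r 72 with h7 | h7
  · exact allRange_spec cHE7_7 r (by omega) (by omega)
  rcases Nat.lt_or_ge r 81 with h8 | h8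
  · exact allRange_spec cHE7_8 r (by omega) (by omega)
  rcases Nat.lt_or_ge r 90 with h9 | h9
  · exact allRange_spec cHE7_9 r (by omega) (by omega)
  rcases Nat.lt_or_ge r 99 with h10 | h10
  · exact allRange_spec cHE7_10 r (by omega) (by omega)
  rcases Nat.lt_or_ge r 108 with h11 | h11
  · exact allRange_spec cHE7_11 r (by omega) (by omega)
  rcases Nat.lt_or_ge r 117 with h12 | h12
  · exact allRange_spec cHE7_12 r (by omega) (by omega)
  exact allRange_spec cHE7_13 r (by omega) (by omega)

theorem cConj0xE7_all : ∀ r < 126, chkConj1 pkE7 nauxE7 0 r = true := by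
  intro r hr
  rcases Nat.lt_or_ge r 37 with h0 | h0
  · exact allRange_spec cConj0xE7_0 r (by omega) (by omega)
  rcases Nat.lt_or_ge r 74 with h1 | h1
  · exact allRange_spec cConj0xE7_1 r (by omega) (by omega)
  rcases Nat.lt_or_ge r 111 with h2 | h2
  · exact allRange_spec cConj0xE7_2 r (by omega) (by omega)
  exact allRange_spec cConj0xE7_3 r (by omega) (by omega)

theorem cConj1xE7_all : ∀ r < 126, chkConj1 pkE7 nauxE7 1 r = true := by
  intro r hr
  rcases Nat.lt_or_ge r 37 with h0 | h0
  · exact allRange_spec cConj1xE7_0 r (by omega) (by omega)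
  rcases Nat.lt_or_ge r 74 with h1 | h1
  · exact allRange_spec cConj1xE7_1 r (by omega) (by omega)
  rcases Nat.lt_or_ge r 111 with h2 | h2
  · exact allRange_spec cConj1xE7_2 r (by omega) (by omega)
  exact allRange_spec cConj1xE7_3 r (by omega) (by omega)

theorem cConj2xE7_all : ∀ r < 126, chkConj1 pkE7 nauxE7 2 r = true := by
  intro r hr
  rcases Nat.lt_or_ge r 37 with h0 | h0
  · exact allRange_spec cConj2xE7_0 r (by omega) (by omega)
  rcases Nat.lt_or_ge r 74 with h1 | h1
  · exact allRange_spec cConj2xE7_1 r (by omega) (by omega)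
  rcases Nat.lt_or_ge r 111 with h2 | h2
  · exact allRange_spec cConj2xE7_2 r (by omega) (by omega)
  exact allRange_spec cConj2xE7_3 r (by omega) (by omega)

theorem cConj3xE7_all : ∀ r < 126, chkConj1 pkE7 nauxE7 3 r = true := by
  intro r hr
  rcases Nat.lt_or_ge r 37 with h0 | h0
  · exact allRange_spec cConj3xE7_0 r (by omega) (by omega)
  rcases Nat.lt_or_ge r 74 with h1 | h1
  · exact allRange_spec cConj3xE7_1 r (by omega) (by omega)
  rcases Nat.lt_or_ge r 111 with h2 | h2
  · exact allRange_spec cConj3xE7_2 r (by omega) (by omega)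
  exact allRange_spec cConj3xE7_3 r (by omega) (by omega)

theorem cConj4xE7_all : ∀ r < 126, chkConj1 pkE7 nauxE7 4 r = true := by
  intro r hr
  rcases Nat.lt_or_ge r 37 with h0 | h0
  · exact allRange_spec cConj4xE7_0 r (by omega) (by omega)
  rcases Nat.lt_or_ge r 74 with h1 | h1
  · exact allRange_spec cConj4xE7_1 r (by omega) (by omega)
  rcases Nat.lt_or_ge r 111 with h2 | h2
  · exact allRange_spec cConj4xE7_2 r (by omega) (by omega)
  exact allRange_spec cConj4xE7_3 r (by omega) (by omega)

theorem cConj5xE7_all : ∀ r < 126, chkConj1 pkE7 nauxE7 5 r = true := by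
  intro r hr
  rcases Nat.lt_or_ge r 37 with h0 | h0
  · exact allRange_spec cConj5xE7_0 r (by omega) (by omega)
  rcases Nat.lt_or_ge r 74 with h1 | h1
  · exact allRange_spec cConj5xE7_1 r (by omega) (by omega)
  rcases Nat.lt_or_ge r 111 with h2 | h2
  · exact allRange_spec cConj5xE7_2 r (by omega) (by omega)
  exact allRange_spec cConj5xE7_3 r (by omega) (by omega)

theorem cConj6xE7_all : ∀ r < 126, chkConj1 pkE7 nauxE7 6 r = true := by
  intro r hr
  rcases Nat.lt_or_ge r 37 with h0 | h0
  · exact allRange_spec cConj6xE7_0 r (by omega) (by omega)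
  rcases Nat.lt_or_ge r 74 with h1 | h1
  · exact allRange_spec cConj6xE7_1 r (by omega) (by omega)
  rcases Nat.lt_or_ge r 111 with h2 | h2
  · exact allRange_spec cConj6xE7_2 r (by omega) (by omega)
  exact allRange_spec cConj6xE7_3 r (by omega) (by omega)

theorem cSCE7_all : ∀ r < 126, chkSC pkE7 nauxE7 pathE7 r = true := by
  intro r hr
  rcases Nat.lt_or_ge r 19 with h0 | h0
  · exact allRange_spec cSCE7_0 r (by omega) (by omega)
  rcases Nat.lt_or_ge r 38 with h1 | h1
  · exact allRange_spec cSCE7_1 r (by omega) (by omega)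
  rcases Nat.lt_or_ge r 57 with h2 | h2
  · exact allRange_spec cSCE7_2 r (by omega) (by omega)
  rcases Nat.lt_or_ge r 76 with h3 | h3
  · exact allRange_spec cSCE7_3 r (by omega) (by omega)
  rcases Nat.lt_or_ge r 95 with h4 | h4
  · exact allRange_spec cSCE7_4 r (by omega) (by omega)
  rcases Nat.lt_or_ge r 114 with h5 | h5
  · exact allRange_spec cSCE7_5 r (by omega) (by omega)
  exact allRange_spec cSCE7_6 r (by omega) (by omega)

theorem cBaseE7_all : ∀ r < 126, chkCommPt pkE7 125 r = true := by
  intro r hr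
  rcases Nat.lt_or_ge r 18 with h0 | h0
  · exact allRange_spec cBaseE7_0 r (by omega) (by omega)
  rcases Nat.lt_or_ge r 36 with h1 | h1
  · exact allRange_spec cBaseE7_1 r (by omega) (by omega)
  rcases Nat.lt_or_ge r 54 with h2 | h2
  · exact allRange_spec cBaseE7_2 r (by omega) (by omega)
  rcases Nat.lt_or_ge r 72 with h3 | h3
  · exact allRange_spec cBaseE7_3 r (by omega) (by omega)
  rcases Nat.lt_or_ge r 90 with h4 | h4
  · exact allRange_spec cBaseE7_4 r (by omega) (by omega)
  rcases Nat.lt_or_ge r 108 with h5 | h5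
  · exact allRange_spec cBaseE7_5 r (by omega) (by omega)
  exact allRange_spec cBaseE7_6 r (by omega) (by omega)

theorem chkAddE7 : chkAdd pkE7 = true := (allBelow_iff _ _).mpr cAddE7_all

theorem chkHE7 : chkH pkE7 prE7 = true := (allBelow_iff _ _).mpr cHE7_all

theorem chkConjE7 : ∀ i < 7, chkConj pkE7 nauxE7 i = true := by
  intro i hi
  interval_cases i
  · exact (allBelow_iff _ _).mpr cConj0xE7_all
  · exact (allBelow_iff _ _).mpr cConj1xE7_all
  · exact (allBelow_iff _ _).mpr cConj2xE7_all
  · exact (allBelow_iff _ _).mpr cConj3xE7_all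
  · exact (allBelow_iff _ _).mpr cConj4xE7_all
  · exact (allBelow_iff _ _).mpr cConj5xE7_all
  · exact (allBelow_iff _ _).mpr cConj6xE7_all

theorem commE7 {F : Type*} [Field F] (r s : ℕ) (hr : r < chevE7.nroots) (hs : s < chevE7.nroots)
    (h1 : s ≠ r) (h2 : s ≠ chevE7.neg r) : CommRel chevE7 F r s :=
  commRel_all fastE7 chkAddE7 chkAuxE7 chkAux2E7 chkNE7 chkConjE7 chkPathE7 chkSLE7
    cSCE7_all (chkBase_of pkE7 pathE7 125 chkBase0E7 cBaseE7_all) r s hr hs h1 h2

end Cfsg.Agent.Chev
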