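import Cfsg.Agent.Chev.Chk.E7P_0
import Cfsg.Agent.Chev.Chk.E7Rel
import Cfsg.Agent.Chev.Tab.E7Root

/-! The relations of type E7, packaged. -/

set_option autoImplicit false
set_option maxRecDepth 1000000

namespace Cfsg.Agent.Chev
open Cfsg.Lie

theorem cPairE7_all : ∀ r < 126, chkPair1 pkE7 prE7 r = true := by
  intro r hr
  rcases Nat.lt_or_ge r 19 with h0 | h0
  · exact allRange_spec cPairE7_0 r (by omega) (by omega)
  rcases Nat.lt_or_ge r 38 with h1 | h1
  · exact allRange_spec cPairE7_1 r (by omega) (by omega)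
  rcases Nat.lt_or_ge r 57 with h2 | h2
  · exact allRange_spec cPairE7_2 r (by omega) (by omega)
  rcases Nat.lt_or_ge r 76 with h3 | h3
  · exact allRange_spec cPairE7_3 r (by omega) (by omega)
  rcases Nat.lt_or_ge r 95 with h4 | h4
  · exact allRange_spec cPairE7_4 r (by omega) (by omega)
  rcases Nat.lt_or_ge r 114 with h5 | h5
  · exact allRange_spec cPairE7_5 r (by omega) (by omega)
  exact allRange_spec cPairE7_6 r (by omega) (by omega)

theorem relsE7 (F : Type*) [Field F] : Rels chevE7 goodE7 F :=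
  Rels.ofChk fastE7 nauxE7 rauxE7 prE7 chkAuxE7 chkAux2E7 cEntE7 chkRootE7 chkAddE7 chkHE7
    cPairE7_all chkNE7 chkConjE7 (fun r s hr hs h1 h2 => commE7 r s hr hs h1 h2)

end Cfsg.Agent.Chev
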