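import Cfsg.Agent.Chev.Tab.E8Aux
import Cfsg.Agent.Chev.Rels

set_option autoImplicit false
set_option maxRecDepth 1000000

namespace Cfsg.Agent.Chev
open Cfsg.Lie

theorem cPairE8_12 : allRange (chkPair1 pkE8 prE8) 120 10 = true := by decide +kernel
theorem cPairE8_13 : allRange (chkPair1 pkE8 prE8) 130 10 = true := by decide +kernel
theorem cPairE8_14 : allRange (chkPair1 pkE8 prE8) 140 10 = true := by decide +kernel
theorem cPairE8_15 : allRange (chkPair1 pkE8 prE8) 150 10 = true := by decide +kernel
theorem cPairE8_16 : allRange (chkPair1 pkE8 prE8) 160 10 = true := by decide +kernel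
theorem cPairE8_17 : allRange (chkPair1 pkE8 prE8) 170 10 = true := by decide +kernel
theorem cPairE8_18 : allRange (chkPair1 pkE8 prE8) 180 10 = true := by decide +kernel
theorem cPairE8_19 : allRange (chkPair1 pkE8 prE8) 190 10 = true := by decide +kernel
theorem cPairE8_20 : allRange (chkPair1 pkE8 prE8) 200 10 = true := by decide +kernel
theorem cPairE8_21 : allRange (chkPair1 pkE8 prE8) 210 10 = true := by decide +kernel
theorem cPairE8_22 : allRange (chkPair1 pkE8 prE8) 220 10 = true := by decide +kernel
theorem cPairE8_23 : allRange (chkPair1 pkE8 prE8) 230 10 = true := by decide +kernel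

end Cfsg.Agent.Chev
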