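import Cfsg.Agent.Chev.Tab.E8Path

set_option autoImplicit false
set_option maxRecDepth 1000000

namespace Cfsg.Agent.Chev
open Cfsg.Lie

theorem cHE8_4 : allRange (chkH1 pkE8 prE8) 20 5 = true := by decide +kernel
theorem cHE8_5 : allRange (chkH1 pkE8 prE8) 25 5 = true := by decide +kernel
theorem cHE8_6 : allRange (chkH1 pkE8 prE8) 30 5 = true := by decide +kernel
theorem cHE8_7 : allRange (chkH1 pkE8 prE8) 35 5 = true := by decide +kernel
theorem cHE8_8 : allRange (chkH1 pkE8 prE8) 40 5 = true := by decide +kernel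
theorem cHE8_9 : allRange (chkH1 pkE8 prE8) 45 5 = true := by decide +kernel
theorem cHE8_10 : allRange (chkH1 pkE8 prE8) 50 5 = true := by decide +kernel
theorem cHE8_11 : allRange (chkH1 pkE8 prE8) 55 5 = true := by decide +kernel
theorem cHE8_12 : allRange (chkH1 pkE8 prE8) 60 5 = true := by decide +kernel
theorem cHE8_13 : allRange (chkH1 pkE8 prE8) 65 5 = true := by decide +kernel
theorem cHE8_14 : allRange (chkH1 pkE8 prE8) 70 5 = true := by decide +kernel
theorem cHE8_15 : allRange (chkH1 pkE8 prE8) 75 5 = true := by decide +kernel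
theorem cHE8_16 : allRange (chkH1 pkE8 prE8) 80 5 = true := by decide +kernel
theorem cHE8_17 : allRange (chkH1 pkE8 prE8) 85 5 = true := by decide +kernel
theorem cHE8_18 : allRange (chkH1 pkE8 prE8) 90 5 = true := by decide +kernel
theorem cHE8_19 : allRange (chkH1 pkE8 prE8) 95 5 = true := by decide +kernel

end Cfsg.Agent.Chev
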