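import Cfsg.Agent.Chev.Tab.E8Path

set_option autoImplicit false
set_option maxRecDepth 1000000

namespace Cfsg.Agent.Chev
open Cfsg.Lie

theorem cSCE8_2 : allRange (chkSC pkE8 nauxE8 pathE8) 20 10 = true := by decide +kernel
theorem cSCE8_3 : allRange (chkSC pkE8 nauxE8 pathE8) 30 10 = true := by decide +kernel
theorem cSCE8_4 : allRange (chkSC pkE8 nauxE8 pathE8) 40 10 = true := by decide +kernel
theorem cSCE8_5 : allRange (chkSC pkE8 nauxE8 pathE8) 50 10 = true := by decide +kernel
theorem cSCE8_6 : allRange (chkSC pkE8 nauxE8 pathE8) 60 10 = true := by decide +kernel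
theorem cSCE8_7 : allRange (chkSC pkE8 nauxE8 pathE8) 70 10 = true := by decide +kernel
theorem cSCE8_8 : allRange (chkSC pkE8 nauxE8 pathE8) 80 10 = true := by decide +kernel
theorem cSCE8_9 : allRange (chkSC pkE8 nauxE8 pathE8) 90 10 = true := by decide +kernel
theorem cSCE8_10 : allRange (chkSC pkE8 nauxE8 pathE8) 100 10 = true := by decide +kernel
theorem cSCE8_11 : allRange (chkSC pkE8 nauxE8 pathE8) 110 10 = true := by decide +kernel

end Cfsg.Agent.Chev
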