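import Cfsg.Agent.Chev.Tab.E8Path

set_option autoImplicit false
set_option maxRecDepth 1000000

namespace Cfsg.Agent.Chev
open Cfsg.Lie

theorem cSCE8_12 : allRange (chkSC pkE8 nauxE8 pathE8) 120 10 = true := by decide +kernel
theorem cSCE8_13 : allRange (chkSC pkE8 nauxE8 pathE8) 130 10 = true := by decide +kernel
theorem cSCE8_14 : allRange (chkSC pkE8 nauxE8 pathE8) 140 10 = true := by decide +kernel
theorem cSCE8_15 : allRange (chkSC pkE8 nauxE8 pathE8) 150 10 = true := by decide +kernel
theorem cSCE8_16 : allRange (chkSC pkE8 nauxE8 pathE8) 160 10 = true := by decide +kernel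
theorem cSCE8_17 : allRange (chkSC pkE8 nauxE8 pathE8) 170 10 = true := by decide +kernel
theorem cSCE8_18 : allRange (chkSC pkE8 nauxE8 pathE8) 180 10 = true := by decide +kernel
theorem cSCE8_19 : allRange (chkSC pkE8 nauxE8 pathE8) 190 10 = true := by decide +kernel
theorem cSCE8_20 : allRange (chkSC pkE8 nauxE8 pathE8) 200 10 = true := by decide +kernel
theorem cSCE8_21 : allRange (chkSC pkE8 nauxE8 pathE8) 210 10 = true := by decide +kernel

end Cfsg.Agent.Chev
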