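import Cfsg.Agent.Chev.Tab.E8Path

set_option autoImplicit false
set_option maxRecDepth 1000000

namespace Cfsg.Agent.Chev
open Cfsg.Lie

theorem cBaseE8_16 : allRange (chkCommPt pkE8 239) 160 10 = true := by decide +kernel
theorem cBaseE8_17 : allRange (chkCommPt pkE8 239) 170 10 = true := by decide +kernel
theorem cBaseE8_18 : allRange (chkCommPt pkE8 239) 180 10 = true := by decide +kernel
theorem cBaseE8_19 : allRange (chkCommPt pkE8 239) 190 10 = true := by decide +kernel
theorem cBaseE8_20 : allRange (chkCommPt pkE8 239) 200 10 = true := by decide +kernel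
theorem cBaseE8_21 : allRange (chkCommPt pkE8 239) 210 10 = true := by decide +kernel
theorem cBaseE8_22 : allRange (chkCommPt pkE8 239) 220 10 = true := by decide +kernel
theorem cBaseE8_23 : allRange (chkCommPt pkE8 239) 230 10 = true := by decide +kernel

end Cfsg.Agent.Chev
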