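import Cfsg.Agent.Chev.Tab.E8Path

set_option autoImplicit false
set_option maxRecDepth 1000000

namespace Cfsg.Agent.Chev
open Cfsg.Lie

theorem cHE8_20 : allRange (chkH1 pkE8 prE8) 100 5 = true := by decide +kernel
theorem cHE8_21 : allRange (chkH1 pkE8 prE8) 105 5 = true := by decide +kernel
theorem cHE8_22 : allRange (chkH1 pkE8 prE8) 110 5 = true := by decide +kernel
theorem cHE8_23 : allRange (chkH1 pkE8 prE8) 115 5 = true := by decide +kernel
theorem cHE8_24 : allRange (chkH1 pkE8 prE8) 120 5 = true := by decide +kernel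
theorem cHE8_25 : allRange (chkH1 pkE8 prE8) 125 5 = true := by decide +kernel
theorem cHE8_26 : allRange (chkH1 pkE8 prE8) 130 5 = true := by decide +kernel
theorem cHE8_27 : allRange (chkH1 pkE8 prE8) 135 5 = true := by decide +kernel
theorem cHE8_28 : allRange (chkH1 pkE8 prE8) 140 5 = true := by decide +kernel
theorem cHE8_29 : allRange (chkH1 pkE8 prE8) 145 5 = true := by decide +kernel
theorem cHE8_30 : allRange (chkH1 pkE8 prE8) 150 5 = true := by decide +kernel
theorem cHE8_31 : allRange (chkH1 pkE8 prE8) 155 5 = true := by decide +kernel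
theorem cHE8_32 : allRange (chkH1 pkE8 prE8) 160 5 = true := by decide +kernel
theorem cHE8_33 : allRange (chkH1 pkE8 prE8) 165 5 = true := by decide +kernel
theorem cHE8_34 : allRange (chkH1 pkE8 prE8) 170 5 = true := by decide +kernel
theorem cHE8_35 : allRange (chkH1 pkE8 prE8) 175 5 = true := by decide +kernel

end Cfsg.Agent.Chev
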