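import Cfsg.Agent.Chev.Tab.E8Path

set_option autoImplicit false
set_option maxRecDepth 1000000

namespace Cfsg.Agent.Chev
open Cfsg.Lie

theorem cHE8_36 : allRange (chkH1 pkE8 prE8) 180 5 = true := by decide +kernel
theorem cHE8_37 : allRange (chkH1 pkE8 prE8) 185 5 = true := by decide +kernel
theorem cHE8_38 : allRange (chkH1 pkE8 prE8) 190 5 = true := by decide +kernel
theorem cHE8_39 : allRange (chkH1 pkE8 prE8) 195 5 = true := by decide +kernel
theorem cHE8_40 : allRange (chkH1 pkE8 prE8) 200 5 = true := by decide +kernel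
theorem cHE8_41 : allRange (chkH1 pkE8 prE8) 205 5 = true := by decide +kernel
theorem cHE8_42 : allRange (chkH1 pkE8 prE8) 210 5 = true := by decide +kernel
theorem cHE8_43 : allRange (chkH1 pkE8 prE8) 215 5 = true := by decide +kernel
theorem cHE8_44 : allRange (chkH1 pkE8 prE8) 220 5 = true := by decide +kernel
theorem cHE8_45 : allRange (chkH1 pkE8 prE8) 225 5 = true := by decide +kernel
theorem cHE8_46 : allRange (chkH1 pkE8 prE8) 230 5 = true := by decide +kernel
theorem cHE8_47 : allRange (chkH1 pkE8 prE8) 235 5 = true := by decide +kernel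
theorem cConj0xE8_0 : allRange (chkConj1 pkE8 nauxE8 0) 0 20 = true := by decide +kernel
theorem cConj0xE8_1 : allRange (chkConj1 pkE8 nauxE8 0) 20 20 = true := by decide +kernel
theorem cConj0xE8_2 : allRange (chkConj1 pkE8 nauxE8 0) 40 20 = true := by decide +kernel
theorem cConj0xE8_3 : allRange (chkConj1 pkE8 nauxE8 0) 60 20 = true := by decide +kernel

end Cfsg.Agent.Chev
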