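import Cfsg.Agent.Chev.Tab.E8Path

set_option autoImplicit false
set_option maxRecDepth 1000000

namespace Cfsg.Agent.Chev
open Cfsg.Lie

theorem cConj0xE8_4 : allRange (chkConj1 pkE8 nauxE8 0) 80 20 = true := by decide +kernel
theorem cConj0xE8_5 : allRange (chkConj1 pkE8 nauxE8 0) 100 20 = true := by decide +kernel
theorem cConj0xE8_6 : allRange (chkConj1 pkE8 nauxE8 0) 120 20 = true := by decide +kernel
theorem cConj0xE8_7 : allRange (chkConj1 pkE8 nauxE8 0) 140 20 = true := by decide +kernel
theorem cConj0xE8_8 : allRange (chkConj1 pkE8 nauxE8 0) 160 20 = true := by decide +kernel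
theorem cConj0xE8_9 : allRange (chkConj1 pkE8 nauxE8 0) 180 20 = true := by decide +kernel
theorem cConj0xE8_10 : allRange (chkConj1 pkE8 nauxE8 0) 200 20 = true := by decide +kernel
theorem cConj0xE8_11 : allRange (chkConj1 pkE8 nauxE8 0) 220 20 = true := by decide +kernel
theorem cConj1xE8_0 : allRange (chkConj1 pkE8 nauxE8 1) 0 20 = true := by decide +kernel
theorem cConj1xE8_1 : allRange (chkConj1 pkE8 nauxE8 1) 20 20 = true := by decide +kernel
theorem cConj1xE8_2 : allRange (chkConj1 pkE8 nauxE8 1) 40 20 = true := by decide +kernel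
theorem cConj1xE8_3 : allRange (chkConj1 pkE8 nauxE8 1) 60 20 = true := by decide +kernel
theorem cConj1xE8_4 : allRange (chkConj1 pkE8 nauxE8 1) 80 20 = true := by decide +kernel
theorem cConj1xE8_5 : allRange (chkConj1 pkE8 nauxE8 1) 100 20 = true := by decide +kernel
theorem cConj1xE8_6 : allRange (chkConj1 pkE8 nauxE8 1) 120 20 = true := by decide +kernel
theorem cConj1xE8_7 : allRange (chkConj1 pkE8 nauxE8 1) 140 20 = true := by decide +kernel

end Cfsg.Agent.Chev
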