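import Cfsg.Agent.Chev.Tab.E8Path

set_option autoImplicit false
set_option maxRecDepth 1000000

namespace Cfsg.Agent.Chev
open Cfsg.Lie

theorem cConj5xE8_8 : allRange (chkConj1 pkE8 nauxE8 5) 160 20 = true := by decide +kernel
theorem cConj5xE8_9 : allRange (chkConj1 pkE8 nauxE8 5) 180 20 = true := by decide +kernel
theorem cConj5xE8_10 : allRange (chkConj1 pkE8 nauxE8 5) 200 20 = true := by decide +kernel
theorem cConj5xE8_11 : allRange (chkConj1 pkE8 nauxE8 5) 220 20 = true := by decide +kernel
theorem cConj6xE8_0 : allRange (chkConj1 pkE8 nauxE8 6) 0 20 = true := by decide +kernel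
theorem cConj6xE8_1 : allRange (chkConj1 pkE8 nauxE8 6) 20 20 = true := by decide +kernel
theorem cConj6xE8_2 : allRange (chkConj1 pkE8 nauxE8 6) 40 20 = true := by decide +kernel
theorem cConj6xE8_3 : allRange (chkConj1 pkE8 nauxE8 6) 60 20 = true := by decide +kernel
theorem cConj6xE8_4 : allRange (chkConj1 pkE8 nauxE8 6) 80 20 = true := by decide +kernel
theorem cConj6xE8_5 : allRange (chkConj1 pkE8 nauxE8 6) 100 20 = true := by decide +kernel
theorem cConj6xE8_6 : allRange (chkConj1 pkE8 nauxE8 6) 120 20 = true := by decide +kernel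
theorem cConj6xE8_7 : allRange (chkConj1 pkE8 nauxE8 6) 140 20 = true := by decide +kernel
theorem cConj6xE8_8 : allRange (chkConj1 pkE8 nauxE8 6) 160 20 = true := by decide +kernel
theorem cConj6xE8_9 : allRange (chkConj1 pkE8 nauxE8 6) 180 20 = true := by decide +kernel
theorem cConj6xE8_10 : allRange (chkConj1 pkE8 nauxE8 6) 200 20 = true := by decide +kernel
theorem cConj6xE8_11 : allRange (chkConj1 pkE8 nauxE8 6) 220 20 = true := by decide +kernel

end Cfsg.Agent.Chev
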