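import Cfsg.Agent.Chev.Chk.E8_0
import Cfsg.Agent.Chev.Chk.E8_1
import Cfsg.Agent.Chev.Chk.E8_2
import Cfsg.Agent.Chev.Chk.E8_3
import Cfsg.Agent.Chev.Chk.E8_4
import Cfsg.Agent.Chev.Chk.E8_5
import Cfsg.Agent.Chev.Chk.E8_6
import Cfsg.Agent.Chev.Chk.E8_7
import Cfsg.Agent.Chev.Chk.E8_8
import Cfsg.Agent.Chev.Chk.E8_9
import Cfsg.Agent.Chev.Chk.E8_10
import Cfsg.Agent.Chev.Chk.E8_11
import Cfsg.Agent.Chev.Chk.E8_12
import Cfsg.Agent.Chev.Chk.E8_13

/-! All basic relations of type E8, assembled from the chunked kernel checks. -/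

set_option autoImplicit false
set_option maxRecDepth 1000000

namespace Cfsg.Agent.Chev
open Cfsg.Lie

theorem cAddE8_all : ∀ r < 240, chkAdd1 pkE8 r = true := by
  intro r hr
  rcases Nat.lt_or_ge r 20 with h0 | h0
  · exact allRange_spec cAddE8_0 r (by omega) (by omega)
  rcases Nat.lt_or_ge r 40 with h1 | h1
  · exact allRange_spec cAddE8_1 r (by omega) (by omega)
  rcases Nat.lt_or_ge r 60 with h2 | h2
  · exact allRange_spec cAddE8_2 r (by omega) (by omega)
  rcases Nat.lt_or_ge r 80 with h3 | h3
  · exact allRange_spec cAddE8_3 r (by omega) (by omega)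
  rcases Nat.lt_or_ge r 100 with h4 | h4
  · exact allRange_spec cAddE8_4 r (by omega) (by omega)
  rcases Nat.lt_or_ge r 120 with h5 | h5
  · exact allRange_spec cAddE8_5 r (by omega) (by omega)
  rcases Nat.lt_or_ge r 140 with h6 | h6
  · exact allRange_spec cAddE8_6 r (by omega) (by omega)
  rcases Nat.lt_or_ge r 160 with h7 | h7
  · exact allRange_spec cAddE8_7 r (by omega) (by omega)
  rcases Nat.lt_or_ge r 180 with h8 | h8
  · exact allRange_spec cAddE8_8 r (by omega) (by omega)
  rcases Nat.lt_or_ge r 200 with h9 | h9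
  · exact allRange_spec cAddE8_9 r (by omega) (by omega)
  rcases Nat.lt_or_ge r 220 with h10 | h10
  · exact allRange_spec cAddE8_10 r (by omega) (by omega)
  exact allRange_spec cAddE8_11 r (by omega) (by omega)

theorem cHE8_all : ∀ r < 240, chkH1 pkE8 prE8 r = true := by
  intro r hr
  rcases Nat.lt_or_ge r 5 with h0 | h0
  · exact allRange_spec cHE8_0 r (by omega) (by omega)
  rcases Nat.lt_or_ge r 10 with h1 | h1
  · exact allRange_spec cHE8_1 r (by omega) (by omega)
  rcases Nat.lt_or_ge r 15 with h2 | h2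
  · exact allRange_spec cHE8_2 r (by omega) (by omega)
  rcases Nat.lt_or_ge r 20 with h3 | h3
  · exact allRange_spec cHE8_3 r (by omega) (by omega)
  rcases Nat.lt_or_ge r 25 with h4 | h4
  · exact allRange_spec cHE8_4 r (by omega) (by omega)
  rcases Nat.lt_or_ge r 30 with h5 | h5
  · exact allRange_spec cHE8_5 r (by omega) (by omega)
  rcases Nat.lt_or_ge r 35 with h6 | h6
  · exact allRange_spec cHE8_6 r (by omega) (by omega)
  rcases Nat.lt_or_ge r 40 with h7 | h7
  · exact allRange_spec cHE8_7 r (by omega) (by omega)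
  rcases Nat.lt_or_ge r 45 with h8 | h8
  · exact allRange_spec cHE8_8 r (by omega) (by omega)
  rcases Nat.lt_or_ge r 50 with h9 | h9
  · exact allRange_spec cHE8_9 r (by omega) (by omega)
  rcases Nat.lt_or_ge r 55 with h10 | h10
  · exact allRange_spec cHE8_10 r (by omega) (by omega)
  rcases Nat.lt_or_ge r 60 with h11 | h11
  · exact allRange_spec cHE8_11 r (by omega) (by omega)
  rcases Nat.lt_or_ge r 65 with h12 | h12
  · exact allRange_spec cHE8_12 r (by omega) (by omega)
  rcases Nat.lt_or_ge r 70 with h13 | h13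
  · exact allRange_spec cHE8_13 r (by omega) (by omega)
  rcases Nat.lt_or_ge r 75 with h14 | h14
  · exact allRange_spec cHE8_14 r (by omega) (by omega)
  rcases Nat.lt_or_ge r 80 with h15 | h15
  · exact allRange_spec cHE8_15 r (by omega) (by omega)
  rcases Nat.lt_or_ge r 85 with h16 | h16
  · exact allRange_spec cHE8_16 r (by omega) (by omega)
  rcases Nat.lt_or_ge r 90 with h17 | h17
  · exact allRange_spec cHE8_17 r (by omega) (by omega)
  rcases Nat.lt_or_ge r 95 with h18 | h18
  · exact allRange_spec cHE8_18 r (by omega) (by omega)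
  rcases Nat.lt_or_ge r 100 with h19 | h19
  · exact allRange_spec cHE8_19 r (by omega) (by omega)
  rcases Nat.lt_or_ge r 105 with h20 | h20
  · exact allRange_spec cHE8_20 r (by omega) (by omega)
  rcases Nat.lt_or_ge r 110 with h21 | h21
  · exact allRange_spec cHE8_21 r (by omega) (by omega)
  rcases Nat.lt_or_ge r 115 with h22 | h22
  · exact allRange_spec cHE8_22 r (by omega) (by omega)
  rcases Nat.lt_or_ge r 120 with h23 | h23
  · exact allRange_spec cHE8_23 r (by omega) (by omega)
  rcases Nat.lt_or_ge r 125 with h24 | h24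
  · exact allRange_spec cHE8_24 r (by omega) (by omega)
  rcases Nat.lt_or_ge r 130 with h25 | h25
  · exact allRange_spec cHE8_25 r (by omega) (by omega)
  rcases Nat.lt_or_ge r 135 with h26 | h26
  · exact allRange_spec cHE8_26 r (by omega) (by omega)
  rcases Nat.lt_or_ge r 140 with h27 | h27
  · exact allRange_spec cHE8_27 r (by omega) (by omega)
  rcases Nat.lt_or_ge r 145 with h28 | h28
  · exact allRange_spec cHE8_28 r (by omega) (by omega)
  rcases Nat.lt_or_ge r 150 with h29 | h29
  · exact allRange_spec cHE8_29 r (by omega) (by omega)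
  rcases Nat.lt_or_ge r 155 with h30 | h30
  · exact allRange_spec cHE8_30 r (by omega) (by omega)
  rcases Nat.lt_or_ge r 160 with h31 | h31
  · exact allRange_spec cHE8_31 r (by omega) (by omega)
  rcases Nat.lt_or_ge r 165 with h32 | h32
  · exact allRange_spec cHE8_32 r (by omega) (by omega)
  rcases Nat.lt_or_ge r 170 with h33 | h33
  · exact allRange_spec cHE8_33 r (by omega) (by omega)
  rcases Nat.lt_or_ge r 175 with h34 | h34
  · exact allRange_spec cHE8_34 r (by omega) (by omega)
  rcases Nat.lt_or_ge r 180 with h35 | h35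
  · exact allRange_spec cHE8_35 r (by omega) (by omega)
  rcases Nat.lt_or_ge r 185 with h36 | h36
  · exact allRange_spec cHE8_36 r (by omega) (by omega)
  rcases Nat.lt_or_ge r 190 with h37 | h37
  · exact allRange_spec cHE8_37 r (by omega) (by omega)
  rcases Nat.lt_or_ge r 195 with h38 | h38
  · exact allRange_spec cHE8_38 r (by omega) (by omega)
  rcases Nat.lt_or_ge r 200 with h39 | h39
  · exact allRange_spec cHE8_39 r (by omega) (by omega)
  rcases Nat.lt_or_ge r 205 with h40 | h40
  · exact allRange_spec cHE8_40 r (by omega) (by omega)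
  rcases Nat.lt_or_ge r 210 with h41 | h41
  · exact allRange_spec cHE8_41 r (by omega) (by omega)
  rcases Nat.lt_or_ge r 215 with h42 | h42
  · exact allRange_spec cHE8_42 r (by omega) (by omega)
  rcases Nat.lt_or_ge r 220 with h43 | h43
  · exact allRange_spec cHE8_43 r (by omega) (by omega)
  rcases Nat.lt_or_ge r 225 with h44 | h44
  · exact allRange_spec cHE8_44 r (by omega) (by omega)
  rcases Nat.lt_or_ge r 230 with h45 | h45
  · exact allRange_spec cHE8_45 r (by omega) (by omega)
  rcases Nat.lt_or_ge r 235 with h46 | h46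
  · exact allRange_spec cHE8_46 r (by omega) (by omega)
  exact allRange_spec cHE8_47 r (by omega) (by omega)

theorem cConj0xE8_all : ∀ r < 240, chkConj1 pkE8 nauxE8 0 r = true := by
  intro r hr
  rcases Nat.lt_or_ge r 20 with h0 | h0
  · exact allRange_spec cConj0xE8_0 r (by omega) (by omega)
  rcases Nat.lt_or_ge r 40 with h1 | h1
  · exact allRange_spec cConj0xE8_1 r (by omega) (by omega)
  rcases Nat.lt_or_ge r 60 with h2 | h2
  · exact allRange_spec cConj0xE8_2 r (by omega) (by omega)
  rcases Nat.lt_or_ge r 80 with h3 | h3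
  · exact allRange_spec cConj0xE8_3 r (by omega) (by omega)
  rcases Nat.lt_or_ge r 100 with h4 | h4
  · exact allRange_spec cConj0xE8_4 r (by omega) (by omega)
  rcases Nat.lt_or_ge r 120 with h5 | h5
  · exact allRange_spec cConj0xE8_5 r (by omega) (by omega)
  rcases Nat.lt_or_ge r 140 with h6 | h6
  · exact allRange_spec cConj0xE8_6 r (by omega) (by omega)
  rcases Nat.lt_or_ge r 160 with h7 | h7
  · exact allRange_spec cConj0xE8_7 r (by omega) (by omega)
  rcases Nat.lt_or_ge r 180 with h8 | h8
  · exact allRange_spec cConj0xE8_8 r (by omega) (by omega)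
  rcases Nat.lt_or_ge r 200 with h9 | h9
  · exact allRange_spec cConj0xE8_9 r (by omega) (by omega)
  rcases Nat.lt_or_ge r 220 with h10 | h10
  · exact allRange_spec cConj0xE8_10 r (by omega) (by omega)
  exact allRange_spec cConj0xE8_11 r (by omega) (by omega)

theorem cConj1xE8_all : ∀ r < 240, chkConj1 pkE8 nauxE8 1 r = true := by
  intro r hr
  rcases Nat.lt_or_ge r 20 with h0 | h0
  · exact allRange_spec cConj1xE8_0 r (by omega) (by omega)
  rcases Nat.lt_or_ge r 40 with h1 | h1
  · exact allRange_spec cConj1xE8_1 r (by omega) (by omega)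
  rcases Nat.lt_or_ge r 60 with h2 | h2
  · exact allRange_spec cConj1xE8_2 r (by omega) (by omega)
  rcases Nat.lt_or_ge r 80 with h3 | h3
  · exact allRange_spec cConj1xE8_3 r (by omega) (by omega)
  rcases Nat.lt_or_ge r 100 with h4 | h4
  · exact allRange_spec cConj1xE8_4 r (by omega) (by omega)
  rcases Nat.lt_or_ge r 120 with h5 | h5
  · exact allRange_spec cConj1xE8_5 r (by omega) (by omega)
  rcases Nat.lt_or_ge r 140 with h6 | h6
  · exact allRange_spec cConj1xE8_6 r (by omega) (by omega)
  rcases Nat.lt_or_ge r 160 with h7 | h7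
  · exact allRange_spec cConj1xE8_7 r (by omega) (by omega)
  rcases Nat.lt_or_ge r 180 with h8 | h8
  · exact allRange_spec cConj1xE8_8 r (by omega) (by omega)
  rcases Nat.lt_or_ge r 200 with h9 | h9
  · exact allRange_spec cConj1xE8_9 r (by omega) (by omega)
  rcases Nat.lt_or_ge r 220 with h10 | h10
  · exact allRange_spec cConj1xE8_10 r (by omega) (by omega)
  exact allRange_spec cConj1xE8_11 r (by omega) (by omega)

theorem cConj2xE8_all : ∀ r < 240, chkConj1 pkE8 nauxE8 2 r = true := by
  intro r hr
  rcases Nat.lt_or_ge r 20 with h0 | h0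
  · exact allRange_spec cConj2xE8_0 r (by omega) (by omega)
  rcases Nat.lt_or_ge r 40 with h1 | h1
  · exact allRange_spec cConj2xE8_1 r (by omega) (by omega)
  rcases Nat.lt_or_ge r 60 with h2 | h2
  · exact allRange_spec cConj2xE8_2 r (by omega) (by omega)
  rcases Nat.lt_or_ge r 80 with h3 | h3
  · exact allRange_spec cConj2xE8_3 r (by omega) (by omega)
  rcases Nat.lt_or_ge r 100 with h4 | h4
  · exact allRange_spec cConj2xE8_4 r (by omega) (by omega)
  rcases Nat.lt_or_ge r 120 with h5 | h5
  · exact allRange_spec cConj2xE8_5 r (by omega) (by omega)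
  rcases Nat.lt_or_ge r 140 with h6 | h6
  · exact allRange_spec cConj2xE8_6 r (by omega) (by omega)
  rcases Nat.lt_or_ge r 160 with h7 | h7
  · exact allRange_spec cConj2xE8_7 r (by omega) (by omega)
  rcases Nat.lt_or_ge r 180 with h8 | h8
  · exact allRange_spec cConj2xE8_8 r (by omega) (by omega)
  rcases Nat.lt_or_ge r 200 with h9 | h9
  · exact allRange_spec cConj2xE8_9 r (by omega) (by omega)
  rcases Nat.lt_or_ge r 220 with h10 | h10
  · exact allRange_spec cConj2xE8_10 r (by omega) (by omega)
  exact allRange_spec cConj2xE8_11 r (by omega) (by omega)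

theorem cConj3xE8_all : ∀ r < 240, chkConj1 pkE8 nauxE8 3 r = true := by
  intro r hr
  rcases Nat.lt_or_ge r 20 with h0 | h0
  · exact allRange_spec cConj3xE8_0 r (by omega) (by omega)
  rcases Nat.lt_or_ge r 40 with h1 | h1
  · exact allRange_spec cConj3xE8_1 r (by omega) (by omega)
  rcases Nat.lt_or_ge r 60 with h2 | h2
  · exact allRange_spec cConj3xE8_2 r (by omega) (by omega)
  rcases Nat.lt_or_ge r 80 with h3 | h3
  · exact allRange_spec cConj3xE8_3 r (by omega) (by omega)
  rcases Nat.lt_or_ge r 100 with h4 | h4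
  · exact allRange_spec cConj3xE8_4 r (by omega) (by omega)
  rcases Nat.lt_or_ge r 120 with h5 | h5
  · exact allRange_spec cConj3xE8_5 r (by omega) (by omega)
  rcases Nat.lt_or_ge r 140 with h6 | h6
  · exact allRange_spec cConj3xE8_6 r (by omega) (by omega)
  rcases Nat.lt_or_ge r 160 with h7 | h7
  · exact allRange_spec cConj3xE8_7 r (by omega) (by omega)
  rcases Nat.lt_or_ge r 180 with h8 | h8
  · exact allRange_spec cConj3xE8_8 r (by omega) (by omega)
  rcases Nat.lt_or_ge r 200 with h9 | h9
  · exact allRange_spec cConj3xE8_9 r (by omega) (by omega)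
  rcases Nat.lt_or_ge r 220 with h10 | h10
  · exact allRange_spec cConj3xE8_10 r (by omega) (by omega)
  exact allRange_spec cConj3xE8_11 r (by omega) (by omega)

theorem cConj4xE8_all : ∀ r < 240, chkConj1 pkE8 nauxE8 4 r = true := by
  intro r hr
  rcases Nat.lt_or_ge r 20 with h0 | h0
  · exact allRange_spec cConj4xE8_0 r (by omega) (by omega)
  rcases Nat.lt_or_ge r 40 with h1 | h1
  · exact allRange_spec cConj4xE8_1 r (by omega) (by omega)
  rcases Nat.lt_or_ge r 60 with h2 | h2
  · exact allRange_spec cConj4xE8_2 r (by omega) (by omega)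
  rcases Nat.lt_or_ge r 80 with h3 | h3
  · exact allRange_spec cConj4xE8_3 r (by omega) (by omega)
  rcases Nat.lt_or_ge r 100 with h4 | h4
  · exact allRange_spec cConj4xE8_4 r (by omega) (by omega)
  rcases Nat.lt_or_ge r 120 with h5 | h5
  · exact allRange_spec cConj4xE8_5 r (by omega) (by omega)
  rcases Nat.lt_or_ge r 140 with h6 | h6
  · exact allRange_spec cConj4xE8_6 r (by omega) (by omega)
  rcases Nat.lt_or_ge r 160 with h7 | h7
  · exact allRange_spec cConj4xE8_7 r (by omega) (by omega)
  rcases Nat.lt_or_ge r 180 with h8 | h8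
  · exact allRange_spec cConj4xE8_8 r (by omega) (by omega)
  rcases Nat.lt_or_ge r 200 with h9 | h9
  · exact allRange_spec cConj4xE8_9 r (by omega) (by omega)
  rcases Nat.lt_or_ge r 220 with h10 | h10
  · exact allRange_spec cConj4xE8_10 r (by omega) (by omega)
  exact allRange_spec cConj4xE8_11 r (by omega) (by omega)

theorem cConj5xE8_all : ∀ r < 240, chkConj1 pkE8 nauxE8 5 r = true := by
  intro r hr
  rcases Nat.lt_or_ge r 20 with h0 | h0
  · exact allRange_spec cConj5xE8_0 r (by omega) (by omega)
  rcases Nat.lt_or_ge r 40 with h1 | h1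
  · exact allRange_spec cConj5xE8_1 r (by omega) (by omega)
  rcases Nat.lt_or_ge r 60 with h2 | h2
  · exact allRange_spec cConj5xE8_2 r (by omega) (by omega)
  rcases Nat.lt_or_ge r 80 with h3 | h3
  · exact allRange_spec cConj5xE8_3 r (by omega) (by omega)
  rcases Nat.lt_or_ge r 100 with h4 | h4
  · exact allRange_spec cConj5xE8_4 r (by omega) (by omega)
  rcases Nat.lt_or_ge r 120 with h5 | h5
  · exact allRange_spec cConj5xE8_5 r (by omega) (by omega)
  rcases Nat.lt_or_ge r 140 with h6 | h6
  · exact allRange_spec cConj5xE8_6 r (by omega) (by omega)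
  rcases Nat.lt_or_ge r 160 with h7 | h7
  · exact allRange_spec cConj5xE8_7 r (by omega) (by omega)
  rcases Nat.lt_or_ge r 180 with h8 | h8
  · exact allRange_spec cConj5xE8_8 r (by omega) (by omega)
  rcases Nat.lt_or_ge r 200 with h9 | h9
  · exact allRange_spec cConj5xE8_9 r (by omega) (by omega)
  rcases Nat.lt_or_ge r 220 with h10 | h10
  · exact allRange_spec cConj5xE8_10 r (by omega) (by omega)
  exact allRange_spec cConj5xE8_11 r (by omega) (by omega)

theorem cConj6xE8_all : ∀ r < 240, chkConj1 pkE8 nauxE8 6 r = true := by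
  intro r hr
  rcases Nat.lt_or_ge r 20 with h0 | h0
  · exact allRange_spec cConj6xE8_0 r (by omega) (by omega)
  rcases Nat.lt_or_ge r 40 with h1 | h1
  · exact allRange_spec cConj6xE8_1 r (by omega) (by omega)
  rcases Nat.lt_or_ge r 60 with h2 | h2
  · exact allRange_spec cConj6xE8_2 r (by omega) (by omega)
  rcases Nat.lt_or_ge r 80 with h3 | h3
  · exact allRange_spec cConj6xE8_3 r (by omega) (by omega)
  rcases Nat.lt_or_ge r 100 with h4 | h4
  · exact allRange_spec cConj6xE8_4 r (by omega) (by omega)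
  rcases Nat.lt_or_ge r 120 with h5 | h5
  · exact allRange_spec cConj6xE8_5 r (by omega) (by omega)
  rcases Nat.lt_or_ge r 140 with h6 | h6
  · exact allRange_spec cConj6xE8_6 r (by omega) (by omega)
  rcases Nat.lt_or_ge r 160 with h7 | h7
  · exact allRange_spec cConj6xE8_7 r (by omega) (by omega)
  rcases Nat.lt_or_ge r 180 with h8 | h8
  · exact allRange_spec cConj6xE8_8 r (by omega) (by omega)
  rcases Nat.lt_or_ge r 200 with h9 | h9
  · exact allRange_spec cConj6xE8_9 r (by omega) (by omega)
  rcases Nat.lt_or_ge r 220 with h10 | h10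
  · exact allRange_spec cConj6xE8_10 r (by omega) (by omega)
  exact allRange_spec cConj6xE8_11 r (by omega) (by omega)

theorem cConj7xE8_all : ∀ r < 240, chkConj1 pkE8 nauxE8 7 r = true := by
  intro r hr
  rcases Nat.lt_or_ge r 20 with h0 | h0
  · exact allRange_spec cConj7xE8_0 r (by omega) (by omega)
  rcases Nat.lt_or_ge r 40 with h1 | h1
  · exact allRange_spec cConj7xE8_1 r (by omega) (by omega)
  rcases Nat.lt_or_ge r 60 with h2 | h2
  · exact allRange_spec cConj7xE8_2 r (by omega) (by omega)
  rcases Nat.lt_or_ge r 80 with h3 | h3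
  · exact allRange_spec cConj7xE8_3 r (by omega) (by omega)
  rcases Nat.lt_or_ge r 100 with h4 | h4
  · exact allRange_spec cConj7xE8_4 r (by omega) (by omega)
  rcases Nat.lt_or_ge r 120 with h5 | h5
  · exact allRange_spec cConj7xE8_5 r (by omega) (by omega)
  rcases Nat.lt_or_ge r 140 with h6 | h6
  · exact allRange_spec cConj7xE8_6 r (by omega) (by omega)
  rcases Nat.lt_or_ge r 160 with h7 | h7
  · exact allRange_spec cConj7xE8_7 r (by omega) (by omega)
  rcases Nat.lt_or_ge r 180 with h8 | h8
  · exact allRange_spec cConj7xE8_8 r (by omega) (by omega)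
  rcases Nat.lt_or_ge r 200 with h9 | h9
  · exact allRange_spec cConj7xE8_9 r (by omega) (by omega)
  rcases Nat.lt_or_ge r 220 with h10 | h10
  · exact allRange_spec cConj7xE8_10 r (by omega) (by omega)
  exact allRange_spec cConj7xE8_11 r (by omega) (by omega)

theorem cSCE8_all : ∀ r < 240, chkSC pkE8 nauxE8 pathE8 r = true := by
  intro r hr
  rcases Nat.lt_or_ge r 10 with h0 | h0
  · exact allRange_spec cSCE8_0 r (by omega) (by omega)
  rcases Nat.lt_or_ge r 20 with h1 | h1
  · exact allRange_spec cSCE8_1 r (by omega) (by omega)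
  rcases Nat.lt_or_ge r 30 with h2 | h2
  · exact allRange_spec cSCE8_2 r (by omega) (by omega)
  rcases Nat.lt_or_ge r 40 with h3 | h3
  · exact allRange_spec cSCE8_3 r (by omega) (by omega)
  rcases Nat.lt_or_ge r 50 with h4 | h4
  · exact allRange_spec cSCE8_4 r (by omega) (by omega)
  rcases Nat.lt_or_ge r 60 with h5 | h5
  · exact allRange_spec cSCE8_5 r (by omega) (by omega)
  rcases Nat.lt_or_ge r 70 with h6 | h6
  · exact allRange_spec cSCE8_6 r (by omega) (by omega)
  rcases Nat.lt_or_ge r 80 with h7 | h7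
  · exact allRange_spec cSCE8_7 r (by omega) (by omega)
  rcases Nat.lt_or_ge r 90 with h8 | h8
  · exact allRange_spec cSCE8_8 r (by omega) (by omega)
  rcases Nat.lt_or_ge r 100 with h9 | h9
  · exact allRange_spec cSCE8_9 r (by omega) (by omega)
  rcases Nat.lt_or_ge r 110 with h10 | h10
  · exact allRange_spec cSCE8_10 r (by omega) (by omega)
  rcases Nat.lt_or_ge r 120 with h11 | h11
  · exact allRange_spec cSCE8_11 r (by omega) (by omega)
  rcases Nat.lt_or_ge r 130 with h12 | h12
  · exact allRange_spec cSCE8_12 r (by omega) (by omega)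
  rcases Nat.lt_or_ge r 140 with h13 | h13
  · exact allRange_spec cSCE8_13 r (by omega) (by omega)
  rcases Nat.lt_or_ge r 150 with h14 | h14
  · exact allRange_spec cSCE8_14 r (by omega) (by omega)
  rcases Nat.lt_or_ge r 160 with h15 | h15
  · exact allRange_spec cSCE8_15 r (by omega) (by omega)
  rcases Nat.lt_or_ge r 170 with h16 | h16
  · exact allRange_spec cSCE8_16 r (by omega) (by omega)
  rcases Nat.lt_or_ge r 180 with h17 | h17
  · exact allRange_spec cSCE8_17 r (by omega) (by omega)
  rcases Nat.lt_or_ge r 190 with h18 | h18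
  · exact allRange_spec cSCE8_18 r (by omega) (by omega)
  rcases Nat.lt_or_ge r 200 with h19 | h19
  · exact allRange_spec cSCE8_19 r (by omega) (by omega)
  rcases Nat.lt_or_ge r 210 with h20 | h20
  · exact allRange_spec cSCE8_20 r (by omega) (by omega)
  rcases Nat.lt_or_ge r 220 with h21 | h21
  · exact allRange_spec cSCE8_21 r (by omega) (by omega)
  rcases Nat.lt_or_ge r 230 with h22 | h22
  · exact allRange_spec cSCE8_22 r (by omega) (by omega)
  exact allRange_spec cSCE8_23 r (by omega) (by omega)

theorem cBaseE8_all : ∀ r < 240, chkCommPt pkE8 239 r = true := by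
  intro r hr
  rcases Nat.lt_or_ge r 10 with h0 | h0
  · exact allRange_spec cBaseE8_0 r (by omega) (by omega)
  rcases Nat.lt_or_ge r 20 with h1 | h1
  · exact allRange_spec cBaseE8_1 r (by omega) (by omega)
  rcases Nat.lt_or_ge r 30 with h2 | h2
  · exact allRange_spec cBaseE8_2 r (by omega) (by omega)
  rcases Nat.lt_or_ge r 40 with h3 | h3
  · exact allRange_spec cBaseE8_3 r (by omega) (by omega)
  rcases Nat.lt_or_ge r 50 with h4 | h4
  · exact allRange_spec cBaseE8_4 r (by omega) (by omega)
  rcases Nat.lt_or_ge r 60 with h5 | h5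
  · exact allRange_spec cBaseE8_5 r (by omega) (by omega)
  rcases Nat.lt_or_ge r 70 with h6 | h6
  · exact allRange_spec cBaseE8_6 r (by omega) (by omega)
  rcases Nat.lt_or_ge r 80 with h7 | h7
  · exact allRange_spec cBaseE8_7 r (by omega) (by omega)
  rcases Nat.lt_or_ge r 90 with h8 | h8
  · exact allRange_spec cBaseE8_8 r (by omega) (by omega)
  rcases Nat.lt_or_ge r 100 with h9 | h9
  · exact allRange_spec cBaseE8_9 r (by omega) (by omega)
  rcases Nat.lt_or_ge r 110 with h10 | h10
  · exact allRange_spec cBaseE8_10 r (by omega) (by omega)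
  rcases Nat.lt_or_ge r 120 with h11 | h11
  · exact allRange_spec cBaseE8_11 r (by omega) (by omega)
  rcases Nat.lt_or_ge r 130 with h12 | h12
  · exact allRange_spec cBaseE8_12 r (by omega) (by omega)
  rcases Nat.lt_or_ge r 140 with h13 | h13
  · exact allRange_spec cBaseE8_13 r (by omega) (by omega)
  rcases Nat.lt_or_ge r 150 with h14 | h14
  · exact allRange_spec cBaseE8_14 r (by omega) (by omega)
  rcases Nat.lt_or_ge r 160 with h15 | h15
  · exact allRange_spec cBaseE8_15 r (by omega) (by omega)
  rcases Nat.lt_or_ge r 170 with h16 | h16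
  · exact allRange_spec cBaseE8_16 r (by omega) (by omega)
  rcases Nat.lt_or_ge r 180 with h17 | h17
  · exact allRange_spec cBaseE8_17 r (by omega) (by omega)
  rcases Nat.lt_or_ge r 190 with h18 | h18
  · exact allRange_spec cBaseE8_18 r (by omega) (by omega)
  rcases Nat.lt_or_ge r 200 with h19 | h19
  · exact allRange_spec cBaseE8_19 r (by omega) (by omega)
  rcases Nat.lt_or_ge r 210 with h20 | h20
  · exact allRange_spec cBaseE8_20 r (by omega) (by omega)
  rcases Nat.lt_or_ge r 220 with h21 | h21
  · exact allRange_spec cBaseE8_21 r (by omega) (by omega)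
  rcases Nat.lt_or_ge r 230 with h22 | h22
  · exact allRange_spec cBaseE8_22 r (by omega) (by omega)
  exact allRange_spec cBaseE8_23 r (by omega) (by omega)

theorem chkAddE8 : chkAdd pkE8 = true := (allBelow_iff _ _).mpr cAddE8_all

theorem chkHE8 : chkH pkE8 prE8 = true := (allBelow_iff _ _).mpr cHE8_all

theorem chkConjE8 : ∀ i < 8, chkConj pkE8 nauxE8 i = true := by
  intro i hi
  interval_cases i
  · exact (allBelow_iff _ _).mpr cConj0xE8_all
  · exact (allBelow_iff _ _).mpr cConj1xE8_all
  · exact (allBelow_iff _ _).mpr cConj2xE8_all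
  · exact (allBelow_iff _ _).mpr cConj3xE8_all
  · exact (allBelow_iff _ _).mpr cConj4xE8_all
  · exact (allBelow_iff _ _).mpr cConj5xE8_all
  · exact (allBelow_iff _ _).mpr cConj6xE8_all
  · exact (allBelow_iff _ _).mpr cConj7xE8_all

theorem commE8 {F : Type*} [Field F] (r s : ℕ) (hr : r < chevE8.nroots) (hs : s < chevE8.nroots)
    (h1 : s ≠ r) (h2 : s ≠ chevE8.neg r) : CommRel chevE8 F r s :=
  commRel_all fastE8 chkAddE8 chkAuxE8 chkAux2E8 chkNE8 chkConjE8 chkPathE8 chkSLE8
    cSCE8_all (chkBase_of pkE8 pathE8 239 chkBase0E8 cBaseE8_all) r s hr hs h1 h2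

end Cfsg.Agent.Chev
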