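import Cfsg.Agent.Chev.Chk.E8P_0
import Cfsg.Agent.Chev.Chk.E8P_1
import Cfsg.Agent.Chev.Chk.E8Rel
import Cfsg.Agent.Chev.Tab.E8Root

/-! The relations of type E8, packaged. -/

set_option autoImplicit false
set_option maxRecDepth 1000000

namespace Cfsg.Agent.Chev
open Cfsg.Lie

theorem cPairE8_all : ∀ r < 240, chkPair1 pkE8 prE8 r = true := by
  intro r hr
  rcases Nat.lt_or_ge r 10 with h0 | h0
  · exact allRange_spec cPairE8_0 r (by omega) (by omega)
  rcases Nat.lt_or_ge r 20 with h1 | h1
  · exact allRange_spec cPairE8_1 r (by omega) (by omega)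
  rcases Nat.lt_or_ge r 30 with h2 | h2
  · exact allRange_spec cPairE8_2 r (by omega) (by omega)
  rcases Nat.lt_or_ge r 40 with h3 | h3
  · exact allRange_spec cPairE8_3 r (by omega) (by omega)
  rcases Nat.lt_or_ge r 50 with h4 | h4
  · exact allRange_spec cPairE8_4 r (by omega) (by omega)
  rcases Nat.lt_or_ge r 60 with h5 | h5
  · exact allRange_spec cPairE8_5 r (by omega) (by omega)
  rcases Nat.lt_or_ge r 70 with h6 | h6
  · exact allRange_spec cPairE8_6 r (by omega) (by omega)
  rcases Nat.lt_or_ge r 80 with h7 | h7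
  · exact allRange_spec cPairE8_7 r (by omega) (by omega)
  rcases Nat.lt_or_ge r 90 with h8 | h8
  · exact allRange_spec cPairE8_8 r (by omega) (by omega)
  rcases Nat.lt_or_ge r 100 with h9 | h9
  · exact allRange_spec cPairE8_9 r (by omega) (by omega)
  rcases Nat.lt_or_ge r 110 with h10 | h10
  · exact allRange_spec cPairE8_10 r (by omega) (by omega)
  rcases Nat.lt_or_ge r 120 with h11 | h11
  · exact allRange_spec cPairE8_11 r (by omega) (by omega)
  rcases Nat.lt_or_ge r 130 with h12 | h12
  · exact allRange_spec cPairE8_12 r (by omega) (by omega)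
  rcases Nat.lt_or_ge r 140 with h13 | h13
  · exact allRange_spec cPairE8_13 r (by omega) (by omega)
  rcases Nat.lt_or_ge r 150 with h14 | h14
  · exact allRange_spec cPairE8_14 r (by omega) (by omega)
  rcases Nat.lt_or_ge r 160 with h15 | h15
  · exact allRange_spec cPairE8_15 r (by omega) (by omega)
  rcases Nat.lt_or_ge r 170 with h16 | h16
  · exact allRange_spec cPairE8_16 r (by omega) (by omega)
  rcases Nat.lt_or_ge r 180 with h17 | h17
  · exact allRange_spec cPairE8_17 r (by omega) (by omega)
  rcases Nat.lt_or_ge r 190 with h18 | h18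
  · exact allRange_spec cPairE8_18 r (by omega) (by omega)
  rcases Nat.lt_or_ge r 200 with h19 | h19
  · exact allRange_spec cPairE8_19 r (by omega) (by omega)
  rcases Nat.lt_or_ge r 210 with h20 | h20
  · exact allRange_spec cPairE8_20 r (by omega) (by omega)
  rcases Nat.lt_or_ge r 220 with h21 | h21
  · exact allRange_spec cPairE8_21 r (by omega) (by omega)
  rcases Nat.lt_or_ge r 230 with h22 | h22
  · exact allRange_spec cPairE8_22 r (by omega) (by omega)
  exact allRange_spec cPairE8_23 r (by omega) (by omega)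

theorem relsE8 (F : Type*) [Field F] : Rels chevE8 goodE8 F :=
  Rels.ofChk fastE8 nauxE8 rauxE8 prE8 chkAuxE8 chkAux2E8 cEntE8 chkRootE8 chkAddE8 chkHE8
    cPairE8_all chkNE8 chkConjE8 (fun r s hr hs h1 h2 => commE8 r s hr hs h1 h2)

end Cfsg.Agent.Chev
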