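import Cfsg.Agent.Chev.Tab.F4Aux

set_option autoImplicit false
set_option maxRecDepth 1000000

namespace Cfsg.Agent.Chev
open Cfsg.Lie

theorem cCommF4_11 : allRange (chkCommRow pkF4) 11 1 = true := by decide +kernel
theorem cCommF4_12 : allRange (chkCommRow pkF4) 12 1 = true := by decide +kernel
theorem cCommF4_13 : allRange (chkCommRow pkF4) 13 1 = true := by decide +kernel
theorem cCommF4_14 : allRange (chkCommRow pkF4) 14 1 = true := by decide +kernel
theorem cCommF4_15 : allRange (chkCommRow pkF4) 15 1 = true := by decide +kernel
theorem cCommF4_16 : allRange (chkCommRow pkF4) 16 1 = true := by decide +kernel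
theorem cCommF4_17 : allRange (chkCommRow pkF4) 17 1 = true := by decide +kernel
theorem cCommF4_18 : allRange (chkCommRow pkF4) 18 1 = true := by decide +kernel
theorem cCommF4_19 : allRange (chkCommRow pkF4) 19 1 = true := by decide +kernel
theorem cCommF4_20 : allRange (chkCommRow pkF4) 20 1 = true := by decide +kernel
theorem cCommF4_21 : allRange (chkCommRow pkF4) 21 1 = true := by decide +kernel
theorem cCommF4_22 : allRange (chkCommRow pkF4) 22 1 = true := by decide +kernel

end Cfsg.Agent.Chev
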