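import Cfsg.Agent.Chev.Tab.F4Aux

set_option autoImplicit false
set_option maxRecDepth 1000000

namespace Cfsg.Agent.Chev
open Cfsg.Lie

theorem cCommF4_23 : allRange (chkCommRow pkF4) 23 1 = true := by decide +kernel
theorem cCommF4_24 : allRange (chkCommRow pkF4) 24 1 = true := by decide +kernel
theorem cCommF4_25 : allRange (chkCommRow pkF4) 25 1 = true := by decide +kernel
theorem cCommF4_26 : allRange (chkCommRow pkF4) 26 1 = true := by decide +kernel
theorem cCommF4_27 : allRange (chkCommRow pkF4) 27 1 = true := by decide +kernel
theorem cCommF4_28 : allRange (chkCommRow pkF4) 28 1 = true := by decide +kernel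
theorem cCommF4_29 : allRange (chkCommRow pkF4) 29 1 = true := by decide +kernel
theorem cCommF4_30 : allRange (chkCommRow pkF4) 30 1 = true := by decide +kernel
theorem cCommF4_31 : allRange (chkCommRow pkF4) 31 1 = true := by decide +kernel
theorem cCommF4_32 : allRange (chkCommRow pkF4) 32 1 = true := by decide +kernel
theorem cCommF4_33 : allRange (chkCommRow pkF4) 33 1 = true := by decide +kernel
theorem cCommF4_34 : allRange (chkCommRow pkF4) 34 1 = true := by decide +kernel

end Cfsg.Agent.Chev
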