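import Cfsg.Agent.Chev.Tab.F4Aux

set_option autoImplicit false
set_option maxRecDepth 1000000

namespace Cfsg.Agent.Chev
open Cfsg.Lie

theorem cCommF4_35 : allRange (chkCommRow pkF4) 35 1 = true := by decide +kernel
theorem cCommF4_36 : allRange (chkCommRow pkF4) 36 1 = true := by decide +kernel
theorem cCommF4_37 : allRange (chkCommRow pkF4) 37 1 = true := by decide +kernel
theorem cCommF4_38 : allRange (chkCommRow pkF4) 38 1 = true := by decide +kernel
theorem cCommF4_39 : allRange (chkCommRow pkF4) 39 1 = true := by decide +kernel
theorem cCommF4_40 : allRange (chkCommRow pkF4) 40 1 = true := by decide +kernel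
theorem cCommF4_41 : allRange (chkCommRow pkF4) 41 1 = true := by decide +kernel
theorem cCommF4_42 : allRange (chkCommRow pkF4) 42 1 = true := by decide +kernel
theorem cCommF4_43 : allRange (chkCommRow pkF4) 43 1 = true := by decide +kernel
theorem cCommF4_44 : allRange (chkCommRow pkF4) 44 1 = true := by decide +kernel
theorem cCommF4_45 : allRange (chkCommRow pkF4) 45 1 = true := by decide +kernel
theorem cCommF4_46 : allRange (chkCommRow pkF4) 46 1 = true := by decide +kernel

end Cfsg.Agent.Chev
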