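import Cfsg.Agent.Chev.Chk.F4_0
import Cfsg.Agent.Chev.Chk.F4_1
import Cfsg.Agent.Chev.Chk.F4_2
import Cfsg.Agent.Chev.Chk.F4_3
import Cfsg.Agent.Chev.Chk.F4_4

/-! All basic relations of type F4, assembled from the chunked kernel checks. -/

set_option autoImplicit false
set_option maxRecDepth 1000000

namespace Cfsg.Agent.Chev
open Cfsg.Lie

theorem cAddF4_all : ∀ r < 48, chkAdd1 pkF4 r = true := by
  intro r hr
  exact allRange_spec cAddF4_0 r (by omega) (by omega)

theorem cHF4_all : ∀ r < 48, chkH1 pkF4 prF4 r = true := by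
  intro r hr
  rcases Nat.lt_or_ge r 24 with h0 | h0
  · exact allRange_spec cHF4_0 r (by omega) (by omega)
  exact allRange_spec cHF4_1 r (by omega) (by omega)

theorem cConj0xF4_all : ∀ r < 48, chkConj1 pkF4 nauxF4 0 r = true := by
  intro r hr
  exact allRange_spec cConj0xF4_0 r (by omega) (by omega)

theorem cConj1xF4_all : ∀ r < 48, chkConj1 pkF4 nauxF4 1 r = true := by
  intro r hr
  exact allRange_spec cConj1xF4_0 r (by omega) (by omega)

theorem cConj2xF4_all : ∀ r < 48, chkConj1 pkF4 nauxF4 2 r = true := by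
  intro r hr
  exact allRange_spec cConj2xF4_0 r (by omega) (by omega)

theorem cConj3xF4_all : ∀ r < 48, chkConj1 pkF4 nauxF4 3 r = true := by
  intro r hr
  exact allRange_spec cConj3xF4_0 r (by omega) (by omega)

theorem cCommF4_all : ∀ r < 48, chkCommRow pkF4 r = true := by
  intro r hr
  rcases Nat.lt_or_ge r 1 with h0 | h0
  · exact allRange_spec cCommF4_0 r (by omega) (by omega)
  rcases Nat.lt_or_ge r 2 with h1 | h1
  · exact allRange_spec cCommF4_1 r (by omega) (by omega)
  rcases Nat.lt_or_ge r 3 with h2 | h2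
  · exact allRange_spec cCommF4_2 r (by omega) (by omega)
  rcases Nat.lt_or_ge r 4 with h3 | h3
  · exact allRange_spec cCommF4_3 r (by omega) (by omega)
  rcases Nat.lt_or_ge r 5 with h4 | h4
  · exact allRange_spec cCommF4_4 r (by omega) (by omega)
  rcases Nat.lt_or_ge r 6 with h5 | h5
  · exact allRange_spec cCommF4_5 r (by omega) (by omega)
  rcases Nat.lt_or_ge r 7 with h6 | h6
  · exact allRange_spec cCommF4_6 r (by omega) (by omega)
  rcases Nat.lt_or_ge r 8 with h7 | h7
  · exact allRange_spec cCommF4_7 r (by omega) (by omega)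
  rcases Nat.lt_or_ge r 9 with h8 | h8
  · exact allRange_spec cCommF4_8 r (by omega) (by omega)
  rcases Nat.lt_or_ge r 10 with h9 | h9
  · exact allRange_spec cCommF4_9 r (by omega) (by omega)
  rcases Nat.lt_or_ge r 11 with h10 | h10
  · exact allRange_spec cCommF4_10 r (by omega) (by omega)
  rcases Nat.lt_or_ge r 12 with h11 | h11
  · exact allRange_spec cCommF4_11 r (by omega) (by omega)
  rcases Nat.lt_or_ge r 13 with h12 | h12
  · exact allRange_spec cCommF4_12 r (by omega) (by omega)
  rcases Nat.lt_or_ge r 14 with h13 | h13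
  · exact allRange_spec cCommF4_13 r (by omega) (by omega)
  rcases Nat.lt_or_ge r 15 with h14 | h14
  · exact allRange_spec cCommF4_14 r (by omega) (by omega)
  rcases Nat.lt_or_ge r 16 with h15 | h15
  · exact allRange_spec cCommF4_15 r (by omega) (by omega)
  rcases Nat.lt_or_ge r 17 with h16 | h16
  · exact allRange_spec cCommF4_16 r (by omega) (by omega)
  rcases Nat.lt_or_ge r 18 with h17 | h17
  · exact allRange_spec cCommF4_17 r (by omega) (by omega)
  rcases Nat.lt_or_ge r 19 with h18 | h18
  · exact allRange_spec cCommF4_18 r (by omega) (by omega)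
  rcases Nat.lt_or_ge r 20 with h19 | h19
  · exact allRange_spec cCommF4_19 r (by omega) (by omega)
  rcases Nat.lt_or_ge r 21 with h20 | h20
  · exact allRange_spec cCommF4_20 r (by omega) (by omega)
  rcases Nat.lt_or_ge r 22 with h21 | h21
  · exact allRange_spec cCommF4_21 r (by omega) (by omega)
  rcases Nat.lt_or_ge r 23 with h22 | h22
  · exact allRange_spec cCommF4_22 r (by omega) (by omega)
  rcases Nat.lt_or_ge r 24 with h23 | h23
  · exact allRange_spec cCommF4_23 r (by omega) (by omega)
  rcases Nat.lt_or_ge r 25 with h24 | h24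
  · exact allRange_spec cCommF4_24 r (by omega) (by omega)
  rcases Nat.lt_or_ge r 26 with h25 | h25
  · exact allRange_spec cCommF4_25 r (by omega) (by omega)
  rcases Nat.lt_or_ge r 27 with h26 | h26
  · exact allRange_spec cCommF4_26 r (by omega) (by omega)
  rcases Nat.lt_or_ge r 28 with h27 | h27
  · exact allRange_spec cCommF4_27 r (by omega) (by omega)
  rcases Nat.lt_or_ge r 29 with h28 | h28
  · exact allRange_spec cCommF4_28 r (by omega) (by omega)
  rcases Nat.lt_or_ge r 30 with h29 | h29
  · exact allRange_spec cCommF4_29 r (by omega) (by omega)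
  rcases Nat.lt_or_ge r 31 with h30 | h30
  · exact allRange_spec cCommF4_30 r (by omega) (by omega)
  rcases Nat.lt_or_ge r 32 with h31 | h31
  · exact allRange_spec cCommF4_31 r (by omega) (by omega)
  rcases Nat.lt_or_ge r 33 with h32 | h32
  · exact allRange_spec cCommF4_32 r (by omega) (by omega)
  rcases Nat.lt_or_ge r 34 with h33 | h33
  · exact allRange_spec cCommF4_33 r (by omega) (by omega)
  rcases Nat.lt_or_ge r 35 with h34 | h34
  · exact allRange_spec cCommF4_34 r (by omega) (by omega)
  rcases Nat.lt_or_ge r 36 with h35 | h35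
  · exact allRange_spec cCommF4_35 r (by omega) (by omega)
  rcases Nat.lt_or_ge r 37 with h36 | h36
  · exact allRange_spec cCommF4_36 r (by omega) (by omega)
  rcases Nat.lt_or_ge r 38 with h37 | h37
  · exact allRange_spec cCommF4_37 r (by omega) (by omega)
  rcases Nat.lt_or_ge r 39 with h38 | h38
  · exact allRange_spec cCommF4_38 r (by omega) (by omega)
  rcases Nat.lt_or_ge r 40 with h39 | h39
  · exact allRange_spec cCommF4_39 r (by omega) (by omega)
  rcases Nat.lt_or_ge r 41 with h40 | h40
  · exact allRange_spec cCommF4_40 r (by omega) (by omega)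
  rcases Nat.lt_or_ge r 42 with h41 | h41
  · exact allRange_spec cCommF4_41 r (by omega) (by omega)
  rcases Nat.lt_or_ge r 43 with h42 | h42
  · exact allRange_spec cCommF4_42 r (by omega) (by omega)
  rcases Nat.lt_or_ge r 44 with h43 | h43
  · exact allRange_spec cCommF4_43 r (by omega) (by omega)
  rcases Nat.lt_or_ge r 45 with h44 | h44
  · exact allRange_spec cCommF4_44 r (by omega) (by omega)
  rcases Nat.lt_or_ge r 46 with h45 | h45
  · exact allRange_spec cCommF4_45 r (by omega) (by omega)
  rcases Nat.lt_or_ge r 47 with h46 | h46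
  · exact allRange_spec cCommF4_46 r (by omega) (by omega)
  exact allRange_spec cCommF4_47 r (by omega) (by omega)

theorem chkAddF4 : chkAdd pkF4 = true := (allBelow_iff _ _).mpr cAddF4_all

theorem chkHF4 : chkH pkF4 prF4 = true := (allBelow_iff _ _).mpr cHF4_all

theorem chkConjF4 : ∀ i < 4, chkConj pkF4 nauxF4 i = true := by
  intro i hi
  interval_cases i
  · exact (allBelow_iff _ _).mpr cConj0xF4_all
  · exact (allBelow_iff _ _).mpr cConj1xF4_all
  · exact (allBelow_iff _ _).mpr cConj2xF4_all
  · exact (allBelow_iff _ _).mpr cConj3xF4_all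

theorem commF4 {F : Type*} [Field F] (r s : ℕ) (hr : r < chevF4.nroots) (hs : s < chevF4.nroots)
    (h1 : s ≠ r) (h2 : s ≠ chevF4.neg r) : CommRel chevF4 F r s :=
  commRel_of_chkRow fastF4 r hr (cCommF4_all r hr) s hs h1 h2

end Cfsg.Agent.Chev
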