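import Cfsg.Agent.Chev.Chk.F4P_0
import Cfsg.Agent.Chev.Chk.F4Rel
import Cfsg.Agent.Chev.Tab.F4Root

/-! The relations of type F4, packaged. -/

set_option autoImplicit false
set_option maxRecDepth 1000000

namespace Cfsg.Agent.Chev
open Cfsg.Lie

theorem cPairF4_all : ∀ r < 48, chkPair1 pkF4 prF4 r = true := by
  intro r hr
  exact allRange_spec cPairF4_0 r (by omega) (by omega)

theorem relsF4 (F : Type*) [Field F] : Rels chevF4 goodF4 F :=
  Rels.ofChk fastF4 nauxF4 rauxF4 prF4 chkAuxF4 chkAux2F4 cEntF4 chkRootF4 chkAddF4 chkHF4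
    cPairF4_all chkNF4 chkConjF4 (fun r s hr hs h1 h2 => commF4 r s hr hs h1 h2)

end Cfsg.Agent.Chev
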