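import Cfsg.Agent.Chev.Tab.B2Aux

set_option autoImplicit false
set_option maxRecDepth 1000000

namespace Cfsg.Agent.Chev
open Cfsg.Lie

theorem cAddB2_0 : allRange (chkAdd1 pkB2) 0 8 = true := by decide +kernel
theorem cHB2_0 : allRange (chkH1 pkB2 prB2) 0 8 = true := by decide +kernel
theorem cConj0xB2_0 : allRange (chkConj1 pkB2 nauxB2 0) 0 8 = true := by decide +kernel
theorem cConj1xB2_0 : allRange (chkConj1 pkB2 nauxB2 1) 0 8 = true := by decide +kernel
theorem cCommB2_0 : allRange (chkCommRow pkB2) 0 8 = true := by decide +kernel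

end Cfsg.Agent.Chev
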