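import Cfsg.Agent.Chev.Tab.D4Aux
import Cfsg.Agent.Chev.Rels

set_option autoImplicit false
set_option maxRecDepth 1000000

namespace Cfsg.Agent.Chev
open Cfsg.Lie

theorem cPairD4_0 : allRange (chkPair1 pkD4 prD4) 0 24 = true := by decide +kernel

end Cfsg.Agent.Chev
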