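import Cfsg.Agent.Chev.Tab.D4Aux

set_option autoImplicit false
set_option maxRecDepth 1000000

namespace Cfsg.Agent.Chev
open Cfsg.Lie

theorem cAddD4_0 : allRange (chkAdd1 pkD4) 0 24 = true := by decide +kernel
theorem cHD4_0 : allRange (chkH1 pkD4 prD4) 0 24 = true := by decide +kernel
theorem cConj0xD4_0 : allRange (chkConj1 pkD4 nauxD4 0) 0 24 = true := by decide +kernel
theorem cConj1xD4_0 : allRange (chkConj1 pkD4 nauxD4 1) 0 24 = true := by decide +kernel
theorem cConj2xD4_0 : allRange (chkConj1 pkD4 nauxD4 2) 0 24 = true := by decide +kernel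
theorem cConj3xD4_0 : allRange (chkConj1 pkD4 nauxD4 3) 0 24 = true := by decide +kernel
theorem cCommD4_0 : allRange (chkCommRow pkD4) 0 4 = true := by decide +kernel
theorem cCommD4_1 : allRange (chkCommRow pkD4) 4 4 = true := by decide +kernel
theorem cCommD4_2 : allRange (chkCommRow pkD4) 8 4 = true := by decide +kernel
theorem cCommD4_3 : allRange (chkCommRow pkD4) 12 4 = true := by decide +kernel
theorem cCommD4_4 : allRange (chkCommRow pkD4) 16 4 = true := by decide +kernel
theorem cCommD4_5 : allRange (chkCommRow pkD4) 20 4 = true := by decide +kernel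

end Cfsg.Agent.Chev
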