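import Cfsg.Agent.Chev.Tab.E6Aux
import Cfsg.Agent.Chev.Rels

set_option autoImplicit false
set_option maxRecDepth 1000000

namespace Cfsg.Agent.Chev
open Cfsg.Lie

theorem cPairE6_0 : allRange (chkPair1 pkE6 prE6) 0 33 = true := by decide +kernel
theorem cPairE6_1 : allRange (chkPair1 pkE6 prE6) 33 33 = true := by decide +kernel
theorem cPairE6_2 : allRange (chkPair1 pkE6 prE6) 66 6 = true := by decide +kernel

end Cfsg.Agent.Chev
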