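import Cfsg.Agent.Chev.Tab.E6Path

set_option autoImplicit false
set_option maxRecDepth 1000000

namespace Cfsg.Agent.Chev
open Cfsg.Lie

theorem cAddE6_0 : allRange (chkAdd1 pkE6) 0 64 = true := by decide +kernel
theorem cAddE6_1 : allRange (chkAdd1 pkE6) 64 8 = true := by decide +kernel
theorem cHE6_0 : allRange (chkH1 pkE6 prE6) 0 16 = true := by decide +kernel
theorem cHE6_1 : allRange (chkH1 pkE6 prE6) 16 16 = true := by decide +kernel
theorem cHE6_2 : allRange (chkH1 pkE6 prE6) 32 16 = true := by decide +kernel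
theorem cHE6_3 : allRange (chkH1 pkE6 prE6) 48 16 = true := by decide +kernel
theorem cHE6_4 : allRange (chkH1 pkE6 prE6) 64 8 = true := by decide +kernel
theorem cConj0xE6_0 : allRange (chkConj1 pkE6 nauxE6 0) 0 64 = true := by decide +kernel
theorem cConj0xE6_1 : allRange (chkConj1 pkE6 nauxE6 0) 64 8 = true := by decide +kernel
theorem cConj1xE6_0 : allRange (chkConj1 pkE6 nauxE6 1) 0 64 = true := by decide +kernel
theorem cConj1xE6_1 : allRange (chkConj1 pkE6 nauxE6 1) 64 8 = true := by decide +kernel
theorem cConj2xE6_0 : allRange (chkConj1 pkE6 nauxE6 2) 0 64 = true := by decide +kernel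
theorem cConj2xE6_1 : allRange (chkConj1 pkE6 nauxE6 2) 64 8 = true := by decide +kernel
theorem cConj3xE6_0 : allRange (chkConj1 pkE6 nauxE6 3) 0 64 = true := by decide +kernel
theorem cConj3xE6_1 : allRange (chkConj1 pkE6 nauxE6 3) 64 8 = true := by decide +kernel
theorem cConj4xE6_0 : allRange (chkConj1 pkE6 nauxE6 4) 0 64 = true := by decide +kernel
theorem cConj4xE6_1 : allRange (chkConj1 pkE6 nauxE6 4) 64 8 = true := by decide +kernel
theorem cConj5xE6_0 : allRange (chkConj1 pkE6 nauxE6 5) 0 64 = true := by decide +kernel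
theorem cConj5xE6_1 : allRange (chkConj1 pkE6 nauxE6 5) 64 8 = true := by decide +kernel
theorem cSCE6_0 : allRange (chkSC pkE6 nauxE6 pathE6) 0 33 = true := by decide +kernel
theorem cSCE6_1 : allRange (chkSC pkE6 nauxE6 pathE6) 33 33 = true := by decide +kernel
theorem cSCE6_2 : allRange (chkSC pkE6 nauxE6 pathE6) 66 6 = true := by decide +kernel
theorem cBaseE6_0 : allRange (chkCommPt pkE6 71) 0 32 = true := by decide +kernel
theorem cBaseE6_1 : allRange (chkCommPt pkE6 71) 32 32 = true := by decide +kernel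
theorem cBaseE6_2 : allRange (chkCommPt pkE6 71) 64 8 = true := by decide +kernel

end Cfsg.Agent.Chev
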