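import Cfsg.Agent.Chev.Tab.E7Aux
import Cfsg.Agent.Chev.Rels

set_option autoImplicit false
set_option maxRecDepth 1000000

namespace Cfsg.Agent.Chev
open Cfsg.Lie

theorem cPairE7_0 : allRange (chkPair1 pkE7 prE7) 0 19 = true := by decide +kernel
theorem cPairE7_1 : allRange (chkPair1 pkE7 prE7) 19 19 = true := by decide +kernel
theorem cPairE7_2 : allRange (chkPair1 pkE7 prE7) 38 19 = true := by decide +kernel
theorem cPairE7_3 : allRange (chkPair1 pkE7 prE7) 57 19 = true := by decide +kernel
theorem cPairE7_4 : allRange (chkPair1 pkE7 prE7) 76 19 = true := by decide +kernel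
theorem cPairE7_5 : allRange (chkPair1 pkE7 prE7) 95 19 = true := by decide +kernel
theorem cPairE7_6 : allRange (chkPair1 pkE7 prE7) 114 12 = true := by decide +kernel

end Cfsg.Agent.Chev
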