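import Cfsg.Agent.Chev.Tab.E7Path

set_option autoImplicit false
set_option maxRecDepth 1000000

namespace Cfsg.Agent.Chev
open Cfsg.Lie

theorem cAddE7_0 : allRange (chkAdd1 pkE7) 0 37 = true := by decide +kernel
theorem cAddE7_1 : allRange (chkAdd1 pkE7) 37 37 = true := by decide +kernel
theorem cAddE7_2 : allRange (chkAdd1 pkE7) 74 37 = true := by decide +kernel
theorem cAddE7_3 : allRange (chkAdd1 pkE7) 111 15 = true := by decide +kernel
theorem cHE7_0 : allRange (chkH1 pkE7 prE7) 0 9 = true := by decide +kernel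
theorem cHE7_1 : allRange (chkH1 pkE7 prE7) 9 9 = true := by decide +kernel
theorem cHE7_2 : allRange (chkH1 pkE7 prE7) 18 9 = true := by decide +kernel
theorem cHE7_3 : allRange (chkH1 pkE7 prE7) 27 9 = true := by decide +kernel
theorem cHE7_4 : allRange (chkH1 pkE7 prE7) 36 9 = true := by decide +kernel
theorem cHE7_5 : allRange (chkH1 pkE7 prE7) 45 9 = true := by decide +kernel
theorem cHE7_6 : allRange (chkH1 pkE7 prE7) 54 9 = true := by decide +kernel
theorem cHE7_7 : allRange (chkH1 pkE7 prE7) 63 9 = true := by decide +kernel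
theorem cHE7_8 : allRange (chkH1 pkE7 prE7) 72 9 = true := by decide +kernel
theorem cHE7_9 : allRange (chkH1 pkE7 prE7) 81 9 = true := by decide +kernel
theorem cHE7_10 : allRange (chkH1 pkE7 prE7) 90 9 = true := by decide +kernel
theorem cHE7_11 : allRange (chkH1 pkE7 prE7) 99 9 = true := by decide +kernel
theorem cHE7_12 : allRange (chkH1 pkE7 prE7) 108 9 = true := by decide +kernel
theorem cHE7_13 : allRange (chkH1 pkE7 prE7) 117 9 = true := by decide +kernel
theorem cConj0xE7_0 : allRange (chkConj1 pkE7 nauxE7 0) 0 37 = true := by decide +kernel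
theorem cConj0xE7_1 : allRange (chkConj1 pkE7 nauxE7 0) 37 37 = true := by decide +kernel
theorem cConj0xE7_2 : allRange (chkConj1 pkE7 nauxE7 0) 74 37 = true := by decide +kernel
theorem cConj0xE7_3 : allRange (chkConj1 pkE7 nauxE7 0) 111 15 = true := by decide +kernel
theorem cConj1xE7_0 : allRange (chkConj1 pkE7 nauxE7 1) 0 37 = true := by decide +kernel
theorem cConj1xE7_1 : allRange (chkConj1 pkE7 nauxE7 1) 37 37 = true := by decide +kernel
theorem cConj1xE7_2 : allRange (chkConj1 pkE7 nauxE7 1) 74 37 = true := by decide +kernel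
theorem cConj1xE7_3 : allRange (chkConj1 pkE7 nauxE7 1) 111 15 = true := by decide +kernel
theorem cConj2xE7_0 : allRange (chkConj1 pkE7 nauxE7 2) 0 37 = true := by decide +kernel
theorem cConj2xE7_1 : allRange (chkConj1 pkE7 nauxE7 2) 37 37 = true := by decide +kernel
theorem cConj2xE7_2 : allRange (chkConj1 pkE7 nauxE7 2) 74 37 = true := by decide +kernel
theorem cConj2xE7_3 : allRange (chkConj1 pkE7 nauxE7 2) 111 15 = true := by decide +kernel
theorem cConj3xE7_0 : allRange (chkConj1 pkE7 nauxE7 3) 0 37 = true := by decide +kernel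
theorem cConj3xE7_1 : allRange (chkConj1 pkE7 nauxE7 3) 37 37 = true := by decide +kernel

end Cfsg.Agent.Chev
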