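import Cfsg.Agent.Chev.Tab.E8Aux
import Cfsg.Agent.Chev.Rels

set_option autoImplicit false
set_option maxRecDepth 1000000

namespace Cfsg.Agent.Chev
open Cfsg.Lie

theorem cPairE8_0 : allRange (chkPair1 pkE8 prE8) 0 10 = true := by decide +kernel
theorem cPairE8_1 : allRange (chkPair1 pkE8 prE8) 10 10 = true := by decide +kernel
theorem cPairE8_2 : allRange (chkPair1 pkE8 prE8) 20 10 = true := by decide +kernel
theorem cPairE8_3 : allRange (chkPair1 pkE8 prE8) 30 10 = true := by decide +kernel
theorem cPairE8_4 : allRange (chkPair1 pkE8 prE8) 40 10 = true := by decide +kernel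
theorem cPairE8_5 : allRange (chkPair1 pkE8 prE8) 50 10 = true := by decide +kernel
theorem cPairE8_6 : allRange (chkPair1 pkE8 prE8) 60 10 = true := by decide +kernel
theorem cPairE8_7 : allRange (chkPair1 pkE8 prE8) 70 10 = true := by decide +kernel
theorem cPairE8_8 : allRange (chkPair1 pkE8 prE8) 80 10 = true := by decide +kernel
theorem cPairE8_9 : allRange (chkPair1 pkE8 prE8) 90 10 = true := by decide +kernel
theorem cPairE8_10 : allRange (chkPair1 pkE8 prE8) 100 10 = true := by decide +kernel
theorem cPairE8_11 : allRange (chkPair1 pkE8 prE8) 110 10 = true := by decide +kernel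

end Cfsg.Agent.Chev
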