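import Cfsg.Agent.Chev.Tab.E8Path

set_option autoImplicit false
set_option maxRecDepth 1000000

namespace Cfsg.Agent.Chev
open Cfsg.Lie

theorem cAddE8_0 : allRange (chkAdd1 pkE8) 0 20 = true := by decide +kernel
theorem cAddE8_1 : allRange (chkAdd1 pkE8) 20 20 = true := by decide +kernel
theorem cAddE8_2 : allRange (chkAdd1 pkE8) 40 20 = true := by decide +kernel
theorem cAddE8_3 : allRange (chkAdd1 pkE8) 60 20 = true := by decide +kernel
theorem cAddE8_4 : allRange (chkAdd1 pkE8) 80 20 = true := by decide +kernel
theorem cAddE8_5 : allRange (chkAdd1 pkE8) 100 20 = true := by decide +kernel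
theorem cAddE8_6 : allRange (chkAdd1 pkE8) 120 20 = true := by decide +kernel
theorem cAddE8_7 : allRange (chkAdd1 pkE8) 140 20 = true := by decide +kernel
theorem cAddE8_8 : allRange (chkAdd1 pkE8) 160 20 = true := by decide +kernel
theorem cAddE8_9 : allRange (chkAdd1 pkE8) 180 20 = true := by decide +kernel
theorem cAddE8_10 : allRange (chkAdd1 pkE8) 200 20 = true := by decide +kernel
theorem cAddE8_11 : allRange (chkAdd1 pkE8) 220 20 = true := by decide +kernel
theorem cHE8_0 : allRange (chkH1 pkE8 prE8) 0 5 = true := by decide +kernel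
theorem cHE8_1 : allRange (chkH1 pkE8 prE8) 5 5 = true := by decide +kernel
theorem cHE8_2 : allRange (chkH1 pkE8 prE8) 10 5 = true := by decide +kernel
theorem cHE8_3 : allRange (chkH1 pkE8 prE8) 15 5 = true := by decide +kernel

end Cfsg.Agent.Chev
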