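import Cfsg.Agent.Chev.Tab.F4Aux

set_option autoImplicit false
set_option maxRecDepth 1000000

namespace Cfsg.Agent.Chev
open Cfsg.Lie

theorem cAddF4_0 : allRange (chkAdd1 pkF4) 0 48 = true := by decide +kernel
theorem cHF4_0 : allRange (chkH1 pkF4 prF4) 0 24 = true := by decide +kernel
theorem cHF4_1 : allRange (chkH1 pkF4 prF4) 24 24 = true := by decide +kernel
theorem cConj0xF4_0 : allRange (chkConj1 pkF4 nauxF4 0) 0 48 = true := by decide +kernel
theorem cConj1xF4_0 : allRange (chkConj1 pkF4 nauxF4 1) 0 48 = true := by decide +kernel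
theorem cConj2xF4_0 : allRange (chkConj1 pkF4 nauxF4 2) 0 48 = true := by decide +kernel
theorem cConj3xF4_0 : allRange (chkConj1 pkF4 nauxF4 3) 0 48 = true := by decide +kernel
theorem cCommF4_0 : allRange (chkCommRow pkF4) 0 1 = true := by decide +kernel
theorem cCommF4_1 : allRange (chkCommRow pkF4) 1 1 = true := by decide +kernel
theorem cCommF4_2 : allRange (chkCommRow pkF4) 2 1 = true := by decide +kernel
theorem cCommF4_3 : allRange (chkCommRow pkF4) 3 1 = true := by decide +kernel
theorem cCommF4_4 : allRange (chkCommRow pkF4) 4 1 = true := by decide +kernel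
theorem cCommF4_5 : allRange (chkCommRow pkF4) 5 1 = true := by decide +kernel
theorem cCommF4_6 : allRange (chkCommRow pkF4) 6 1 = true := by decide +kernel
theorem cCommF4_7 : allRange (chkCommRow pkF4) 7 1 = true := by decide +kernel
theorem cCommF4_8 : allRange (chkCommRow pkF4) 8 1 = true := by decide +kernel
theorem cCommF4_9 : allRange (chkCommRow pkF4) 9 1 = true := by decide +kernel
theorem cCommF4_10 : allRange (chkCommRow pkF4) 10 1 = true := by decide +kernel

end Cfsg.Agent.Chev
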