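import Cfsg.Agent.Chev.Chk.G2_0

/-! All basic relations of type G2, assembled from the chunked kernel checks. -/

set_option autoImplicit false
set_option maxRecDepth 1000000

namespace Cfsg.Agent.Chev
open Cfsg.Lie

theorem cAddG2_all : ∀ r < 12, chkAdd1 pkG2 r = true := by
  intro r hr
  exact allRange_spec cAddG2_0 r (by omega) (by omega)

theorem cHG2_all : ∀ r < 12, chkH1 pkG2 prG2 r = true := by
  intro r hr
  exact allRange_spec cHG2_0 r (by omega) (by omega)

theorem cConj0xG2_all : ∀ r < 12, chkConj1 pkG2 nauxG2 0 r = true := by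
  intro r hr
  exact allRange_spec cConj0xG2_0 r (by omega) (by omega)

theorem cConj1xG2_all : ∀ r < 12, chkConj1 pkG2 nauxG2 1 r = true := by
  intro r hr
  exact allRange_spec cConj1xG2_0 r (by omega) (by omega)

theorem cCommG2_all : ∀ r < 12, chkCommRow pkG2 r = true := by
  intro r hr
  rcases Nat.lt_or_ge r 4 with h0 | h0
  · exact allRange_spec cCommG2_0 r (by omega) (by omega)
  rcases Nat.lt_or_ge r 8 with h1 | h1
  · exact allRange_spec cCommG2_1 r (by omega) (by omega)
  exact allRange_spec cCommG2_2 r (by omega) (by omega)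

theorem chkAddG2 : chkAdd pkG2 = true := (allBelow_iff _ _).mpr cAddG2_all

theorem chkHG2 : chkH pkG2 prG2 = true := (allBelow_iff _ _).mpr cHG2_all

theorem chkConjG2 : ∀ i < 2, chkConj pkG2 nauxG2 i = true := by
  intro i hi
  interval_cases i
  · exact (allBelow_iff _ _).mpr cConj0xG2_all
  · exact (allBelow_iff _ _).mpr cConj1xG2_all

theorem commG2 {F : Type*} [Field F] (r s : ℕ) (hr : r < chevG2.nroots) (hs : s < chevG2.nroots)
    (h1 : s ≠ r) (h2 : s ≠ chevG2.neg r) : CommRel chevG2 F r s :=
  commRel_of_chkRow fastG2 r hr (cCommG2_all r hr) s hs h1 h2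

end Cfsg.Agent.Chev
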