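import Cfsg.Agent.Chev.Chk.G2P_0
import Cfsg.Agent.Chev.Chk.G2Rel
import Cfsg.Agent.Chev.Tab.G2Root

/-! The relations of type G2, packaged. -/

set_option autoImplicit false
set_option maxRecDepth 1000000

namespace Cfsg.Agent.Chev
open Cfsg.Lie

theorem cPairG2_all : ∀ r < 12, chkPair1 pkG2 prG2 r = true := by
  intro r hr
  exact allRange_spec cPairG2_0 r (by omega) (by omega)

theorem relsG2 (F : Type*) [Field F] : Rels chevG2 goodG2 F :=
  Rels.ofChk fastG2 nauxG2 rauxG2 prG2 chkAuxG2 chkAux2G2 cEntG2 chkRootG2 chkAddG2 chkHG2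
    cPairG2_all chkNG2 chkConjG2 (fun r s hr hs h1 h2 => commG2 r s hr hs h1 h2)

end Cfsg.Agent.Chev
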