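import Cfsg.Agent.Chev.Tab.G2Aux

set_option autoImplicit false
set_option maxRecDepth 1000000

namespace Cfsg.Agent.Chev
open Cfsg.Lie

theorem cAddG2_0 : allRange (chkAdd1 pkG2) 0 12 = true := by decide +kernel
theorem cHG2_0 : allRange (chkH1 pkG2 prG2) 0 12 = true := by decide +kernel
theorem cConj0xG2_0 : allRange (chkConj1 pkG2 nauxG2 0) 0 12 = true := by decide +kernel
theorem cConj1xG2_0 : allRange (chkConj1 pkG2 nauxG2 1) 0 12 = true := by decide +kernel
theorem cCommG2_0 : allRange (chkCommRow pkG2) 0 4 = true := by decide +kernel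
theorem cCommG2_1 : allRange (chkCommRow pkG2) 4 4 = true := by decide +kernel
theorem cCommG2_2 : allRange (chkCommRow pkG2) 8 4 = true := by decide +kernel

end Cfsg.Agent.Chev
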